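import Cfsg.Agent.Lib.Helper7.NMC.Defs

set_option autoImplicit false

namespace Cfsg.Agent.Lib.Helper7.NMC

open Matrix

variable {n : ℕ} {F : Type*} [Field F]

theorem nf1_ch2 (M : Matrix (Fin 2) (Fin 2) F) : M * M = M.trace • M - M.det • (1 : Matrix (Fin 2) (Fin 2) F) := by
  ext i j
  fin_cases i <;> fin_cases j <;>
    simp [Matrix.mul_apply, Fin.sum_univ_two, Matrix.trace_fin_two, Matrix.det_fin_two] <;> ring

theorem nf1_lin_zero (s : GL (Fin 2) F) (hs : IrrM s) (α β : F)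
    (h : (α • (1 : Matrix (Fin 2) (Fin 2) F) + β • (s : Matrix (Fin 2) (Fin 2) F)).det = 0) :
    α = 0 ∧ β = 0 := by
  obtain ⟨v, hv, hv0⟩ := Matrix.exists_mulVec_eq_zero_iff.2 h
  rw [Matrix.add_mulVec, Matrix.smul_mulVec, Matrix.smul_mulVec, Matrix.one_mulVec] at hv0
  have hβ : β = 0 := by
    by_contra hβ
    apply hs v hv (-α / β)
    have h1 : β • ((s : Matrix (Fin 2) (Fin 2) F) *ᵥ v) = -(α • v) := by
      rw [eq_neg_iff_add_eq_zero, add_comm]; exact hv0
    calc (s : Matrix (Fin 2) (Fin 2) F) *ᵥ v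
        = β⁻¹ • (β • ((s : Matrix (Fin 2) (Fin 2) F) *ᵥ v)) := by
          rw [smul_smul, inv_mul_cancel₀ hβ, one_smul]
      _ = (-α / β) • v := by
          rw [h1, ← neg_smul, smul_smul]; congr 1; field_simp
  refine ⟨?_, hβ⟩
  rw [hβ, zero_smul, add_zero] at hv0
  rcases smul_eq_zero.1 hv0 with h | h
  · exact h
  · exact absurd h hv

theorem nf1_entry (s : GL (Fin 2) F) (hs : IrrM s) : (s : Matrix (Fin 2) (Fin 2) F) 0 1 ≠ 0 := by
  intro h
  apply hs ![0, 1] (by simp) ((s : Matrix (Fin 2) (Fin 2) F) 1 1)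
  ext i
  fin_cases i <;> simp [Matrix.mulVec, dotProduct, Fin.sum_univ_two, h]

theorem nf1_commutant (s g : GL (Fin 2) F) (hs : IrrM s)
    (h : (g : Matrix (Fin 2) (Fin 2) F) * (s : Matrix (Fin 2) (Fin 2) F) =
      (s : Matrix (Fin 2) (Fin 2) F) * (g : Matrix (Fin 2) (Fin 2) F)) :
    ∃ a b : F, (g : Matrix (Fin 2) (Fin 2) F) =
      a • (1 : Matrix (Fin 2) (Fin 2) F) + b • (s : Matrix (Fin 2) (Fin 2) F) := by
  have hq := nf1_entry s hs
  set S := (s : Matrix (Fin 2) (Fin 2) F) with hS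
  set M := (g : Matrix (Fin 2) (Fin 2) F) with hM
  have e00 := congrFun (congrFun h 0) 0
  have e01 := congrFun (congrFun h 0) 1
  simp only [Matrix.mul_apply, Fin.sum_univ_two] at e00 e01
  refine ⟨M 0 0 - M 0 1 / S 0 1 * S 0 0, M 0 1 / S 0 1, ?_⟩
  ext i j
  fin_cases i <;> fin_cases j <;> simp
  · field_simp
  · field_simp
    linear_combination -e00
  · field_simp
    linear_combination -e01

theorem normF_cases (s g : GL (Fin 2) F) (hs : IrrM s) (hg : g ∈ normF s) :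
    (∃ a b : F, (g : Matrix (Fin 2) (Fin 2) F) = a • (1 : Matrix (Fin 2) (Fin 2) F) + b • (s : Matrix (Fin 2) (Fin 2) F)) ∨
    ((g * s * g⁻¹ : GL (Fin 2) F) : Matrix (Fin 2) (Fin 2) F) =
      (Matrix.trace (s : Matrix (Fin 2) (Fin 2) F)) • (1 : Matrix (Fin 2) (Fin 2) F) - (s : Matrix (Fin 2) (Fin 2) F) := by
  obtain ⟨⟨a, b, hab⟩, -⟩ := hg
  set S := (s : Matrix (Fin 2) (Fin 2) F) with hS
  set τ := S.trace with hτ
  set δ := S.det with hδ
  have htr : ((g * s * g⁻¹ : GL (Fin 2) F) : Matrix (Fin 2) (Fin 2) F).trace = τ := by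
    rw [Units.val_mul, Units.val_mul, Matrix.trace_mul_comm, ← Matrix.mul_assoc, ← Units.val_mul,
      inv_mul_cancel, Units.val_one, Matrix.one_mul]
  have hdet : ((g * s * g⁻¹ : GL (Fin 2) F) : Matrix (Fin 2) (Fin 2) F).det = δ := by
    rw [Units.val_mul, Units.val_mul, Matrix.det_mul, Matrix.det_mul, mul_comm, ← mul_assoc,
      ← Matrix.det_mul, ← Units.val_mul, inv_mul_cancel, Units.val_one, Matrix.det_one, one_mul]
  have tlin : (a • (1 : Matrix (Fin 2) (Fin 2) F) + b • S).trace = 2 * a + b * S.trace := by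
    simp [Matrix.trace_fin_two]
    ring
  have E1 : 2 * a + b * τ = τ := by
    rw [hab, tlin] at htr
    exact htr
  have dlin : ∀ α β : F, (α • (1 : Matrix (Fin 2) (Fin 2) F) + β • S).det =
      α ^ 2 + α * β * τ + β ^ 2 * δ := by
    intro α β
    rw [hτ, hδ]
    simp [Matrix.det_fin_two, Matrix.trace_fin_two]
    ring
  have E2 : a ^ 2 + a * b * τ + b ^ 2 * δ = δ := by
    rw [hab, dlin] at hdet
    exact hdet
  have hprod : (a • (1 : Matrix (Fin 2) (Fin 2) F) + (b - 1) • S).det *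
      ((a - τ) • (1 : Matrix (Fin 2) (Fin 2) F) + (b + 1) • S).det = 0 := by
    rw [dlin, dlin]
    linear_combination ((a * (a - τ) - (b ^ 2 - 1) * δ) * a + (a * (a - τ) - (b ^ 2 - 1) * δ) * τ * b +
      (b * (2 * a + b * τ - τ)) * δ * b) * E1 - (a * (a - τ) - (b ^ 2 - 1) * δ) * E2
  rcases mul_eq_zero.1 hprod with h | h
  · obtain ⟨ha, hb⟩ := nf1_lin_zero s hs _ _ h
    left
    apply nf1_commutant s g hs
    have hb1 : b = 1 := by linear_combination hb
    rw [ha, hb1, zero_smul, zero_add, one_smul] at hab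
    have h2 : g * s * g⁻¹ = s := Units.ext hab
    have h3 : g * s = s * g := by
      calc g * s = (g * s * g⁻¹) * g := by group
        _ = s * g := by rw [h2]
    have h4 := congrArg (fun u : GL (Fin 2) F => (u : Matrix (Fin 2) (Fin 2) F)) h3
    simpa using h4
  · obtain ⟨ha, hb⟩ := nf1_lin_zero s hs _ _ h
    right
    have ha1 : a = τ := by linear_combination ha
    have hb1 : b = -1 := by linear_combination hb
    rw [hab, ha1, hb1, neg_smul, one_smul, sub_eq_add_neg]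

end Cfsg.Agent.Lib.Helper7.NMC
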