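import Cfsg.Agent.Lib.Helper7.NMC.Defs

set_option autoImplicit false

namespace Cfsg.Agent.Lib.Helper7.NMC

open Matrix

variable {n : ℕ} {F : Type*} [Field F]

/-- an irreducible 2 × 2 matrix has non-zero entry (1,0) -/
theorem nf2_ne (s : GL (Fin 2) F) (hs : IrrM s) :
    (s : Matrix (Fin 2) (Fin 2) F) 1 0 ≠ 0 ∧ (s : Matrix (Fin 2) (Fin 2) F) 0 1 ≠ 0 := by
  constructor
  · intro h
    apply hs ![1, 0] (by intro h0; simpa using congrFun h0 0) ((s : Matrix (Fin 2) (Fin 2) F) 0 0)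
    ext i
    fin_cases i <;> simp [Matrix.mulVec, dotProduct, Fin.sum_univ_two, h]
  · intro h
    apply hs ![0, 1] (by intro h0; simpa using congrFun h0 1) ((s : Matrix (Fin 2) (Fin 2) F) 1 1)
    ext i
    fin_cases i <;> simp [Matrix.mulVec, dotProduct, Fin.sum_univ_two, h]

theorem sq_scalar_of_swap (s g : GL (Fin 2) F) (hs : IrrM s)
    (hg : ((g * s * g⁻¹ : GL (Fin 2) F) : Matrix (Fin 2) (Fin 2) F) =
      (Matrix.trace (s : Matrix (Fin 2) (Fin 2) F)) • (1 : Matrix (Fin 2) (Fin 2) F) - (s : Matrix (Fin 2) (Fin 2) F)) :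
    IsSc (g ^ 2) := by
  obtain ⟨h10, h01⟩ := nf2_ne s hs
  -- g s = (τ - s) g
  have h1 : (g : Matrix (Fin 2) (Fin 2) F) * (s : Matrix (Fin 2) (Fin 2) F) =
      ((Matrix.trace (s : Matrix (Fin 2) (Fin 2) F)) • (1 : Matrix (Fin 2) (Fin 2) F)
        - (s : Matrix (Fin 2) (Fin 2) F)) * (g : Matrix (Fin 2) (Fin 2) F) := by
    rw [← hg, ← Units.val_mul, ← Units.val_mul]
    congr 1
    group
  set G := (g : Matrix (Fin 2) (Fin 2) F) with hG
  set T := (s : Matrix (Fin 2) (Fin 2) F) with hT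
  have e01 := congrFun (congrFun h1 0) 1
  simp [Matrix.mul_apply, Fin.sum_univ_two, Matrix.trace, Matrix.sub_apply, Matrix.smul_apply,
    Matrix.one_apply] at e01
  have htr : G 0 0 + G 1 1 = 0 := by
    have : (G 0 0 + G 1 1) * T 0 1 = 0 := by linear_combination e01
    exact (mul_eq_zero.mp this).resolve_right h01
  refine ⟨G 0 0 * G 0 0 + G 0 1 * G 1 0, ?_⟩
  rw [pow_two, Units.val_mul]
  have h11 : G 1 1 = - G 0 0 := by linear_combination htr
  ext i j
  fin_cases i <;> fin_cases j <;>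
    simp [Matrix.mul_apply, Fin.sum_univ_two, ← hG, h11] <;> ring

end Cfsg.Agent.Lib.Helper7.NMC
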