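import Cfsg.Agent.Lib.Helper7.NMC.Defs

set_option autoImplicit false

namespace Cfsg.Agent.Lib.Helper7.NMC

open Matrix

variable {n : ℕ} {F : Type*} [Field F]

/-- NF3.  an element a + b s of GL_2 with b ≠ 0 is irreducible (an eigenvector of it is an eigenvector of s). -/
theorem irr_of_lin (s g : GL (Fin 2) F) (hs : IrrM s) (a b : F) (hb : b ≠ 0)
    (hg : (g : Matrix (Fin 2) (Fin 2) F) = a • (1 : Matrix (Fin 2) (Fin 2) F) + b • (s : Matrix (Fin 2) (Fin 2) F)) :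
    IrrM g := by
  intro v hv c hc
  apply hs v hv ((c - a) / b)
  rw [hg, Matrix.add_mulVec, Matrix.smul_mulVec, Matrix.smul_mulVec, Matrix.one_mulVec] at hc
  have h1 : b • ((s : Matrix (Fin 2) (Fin 2) F) *ᵥ v) = (c - a) • v := by
    rw [sub_smul, ← hc]
    abel
  rw [div_eq_inv_mul, mul_smul, ← h1, smul_smul, inv_mul_cancel₀ hb, one_smul]

theorem nf3_conj (s s' h : GL (Fin n) F) (a b : F)
    (hs' : (s' : Matrix (Fin n) (Fin n) F) = a • (1 : Matrix (Fin n) (Fin n) F) + b • (s : Matrix (Fin n) (Fin n) F)) :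
    ((h * s' * h⁻¹ : GL (Fin n) F) : Matrix (Fin n) (Fin n) F) =
      a • (1 : Matrix (Fin n) (Fin n) F) + b • ((h * s * h⁻¹ : GL (Fin n) F) : Matrix (Fin n) (Fin n) F) := by
  rw [Units.val_mul, Units.val_mul, hs', Matrix.mul_add, Matrix.add_mul, Matrix.mul_smul,
    Matrix.smul_mul, Matrix.mul_smul, Matrix.smul_mul, Matrix.mul_one, ← Units.val_mul,
    mul_inv_cancel, Units.val_one, Units.val_mul, Units.val_mul]

theorem nf3_le (s s' : GL (Fin n) F) (a b : F)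
    (hs' : (s' : Matrix (Fin n) (Fin n) F) = a • (1 : Matrix (Fin n) (Fin n) F) + b • (s : Matrix (Fin n) (Fin n) F)) :
    normF s ≤ normF s' := by
  rintro g ⟨⟨α, β, h1⟩, ⟨α', β', h2⟩⟩
  refine ⟨⟨a + b * α - β * a, β, ?_⟩, ⟨a + b * α' - β' * a, β', ?_⟩⟩
  · rw [nf3_conj s s' g a b hs', h1, hs']
    module
  · have := nf3_conj s s' g⁻¹ a b hs'
    rw [inv_inv] at this
    rw [this, h2, hs']
    module

/-- NF3.  span{1, s'} = span{1, s}. -/
theorem normF_eq_of_lin (s s' : GL (Fin 2) F) (a b : F) (hb : b ≠ 0)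
    (h : (s' : Matrix (Fin 2) (Fin 2) F) = a • (1 : Matrix (Fin 2) (Fin 2) F) + b • (s : Matrix (Fin 2) (Fin 2) F)) :
    normF s' = normF s := by
  have h' : (s : Matrix (Fin 2) (Fin 2) F) =
      (-(b⁻¹ * a)) • (1 : Matrix (Fin 2) (Fin 2) F) + b⁻¹ • (s' : Matrix (Fin 2) (Fin 2) F) := by
    rw [h, smul_add, smul_smul, smul_smul, inv_mul_cancel₀ hb, one_smul, ← add_assoc, ← add_smul,
      neg_add_cancel, zero_smul, zero_add]
  exact le_antisymm (nf3_le s' s _ _ h') (nf3_le s s' a b h)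

end Cfsg.Agent.Lib.Helper7.NMC
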