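import Cfsg.Agent.Lib.Helper7.NMC.Defs
import Cfsg.Agent.Lib.Helper7.NMC.NF1
import Cfsg.Agent.Lib.Helper7.NMC.NF2
import Cfsg.Agent.Lib.Helper7.NMC.NF3

set_option autoImplicit false

namespace Cfsg.Agent.Lib.Helper7.NMC

open Matrix

variable {n : ℕ} {F : Type*} [Field F]

/-- an element of `normF s` (`s` irreducible) with an eigenvector is scalar or has a scalar square. -/
theorem dg1_aux (s d : GL (Fin 2) F) (hs : IrrM s) (hd : d ∈ normF s) (v : Fin 2 → F) (hv : v ≠ 0)
    (c : F) (hc : (d : Matrix (Fin 2) (Fin 2) F) *ᵥ v = c • v) : IsSc d ∨ IsSc (d ^ 2) := by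
  rcases normF_cases s d hs hd with ⟨a, b, hab⟩ | h
  · by_cases hb : b = 0
    · left
      exact ⟨a, by rw [hab, hb, zero_smul, add_zero]⟩
    · exact absurd hc (irr_of_lin s d hs a b hb hab v hv c)
  · right
    exact sq_scalar_of_swap s d hs h

/-- DG1.  (uses NF1 NF2 NF3) dg l has the eigenvector e₀ so it is not a + b s with b ≠ 0; it is not scalar (l² ≠ 1); its square diag(l², l⁻²) is not scalar. -/
theorem dg_not_mem_normF (l : Fˣ) (hl : l ^ 4 ≠ 1) (s : GL (Fin 2) F) (hs : IrrM s) :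
    Matrix.SpecialLinearGroup.toGL (dg l) ∉ normF s := by
  intro hd
  have hxy : (l : F) * ((l⁻¹ : Fˣ) : F) = 1 := Units.mul_inv l
  have hM : ((Matrix.SpecialLinearGroup.toGL (dg l) : GL (Fin 2) F) : Matrix (Fin 2) (Fin 2) F) =
      !![(l : F), 0; 0, ((l⁻¹ : Fˣ) : F)] := rfl
  apply hl
  apply Units.ext
  rw [Units.val_pow_eq_pow_val, Units.val_one]
  rcases dg1_aux s _ hs hd (Pi.single 0 1) (by
      intro h0
      have := congrFun h0 0
      simp at this) (l : F) (by
      rw [hM]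
      funext i
      fin_cases i <;> simp [Matrix.mulVec, dotProduct, Fin.sum_univ_two]) with ⟨c, hc⟩ | ⟨c, hc⟩
  · rw [hM] at hc
    have e0 := congrFun (congrFun hc 0) 0
    have e1 := congrFun (congrFun hc 1) 1
    simp at e0 e1
    have h : (l : F) = ((l⁻¹ : Fˣ) : F) := by
      simp only [Units.val_inv_eq_inv_val]
      exact e0.trans e1.symm
    linear_combination ((l : F) ^ 2 + 1) * ((l : F) * h + hxy)
  · rw [Units.val_pow_eq_pow_val, hM, pow_two] at hc
    have e0 := congrFun (congrFun hc 0) 0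
    have e1 := congrFun (congrFun hc 1) 1
    simp [Matrix.mul_apply, Fin.sum_univ_two] at e0 e1
    have h : (l : F) * (l : F) = ((l⁻¹ : Fˣ) : F) * ((l⁻¹ : Fˣ) : F) := by
      simp only [Units.val_inv_eq_inv_val]
      exact e0.trans e1.symm
    linear_combination (l : F) ^ 2 * h + ((l : F) * ((l⁻¹ : Fˣ) : F) + 1) * hxy

end Cfsg.Agent.Lib.Helper7.NMC
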