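import Cfsg.Agent.Lib.Helper7.NMC.Defs

set_option autoImplicit false

namespace Cfsg.Agent.Lib.Helper7.NMC

open Matrix

variable {n : ℕ} {F : Type*} [Field F]

/-- NIL. -/
theorem nil_le {X : Type*} [Group X] (A S : Subgroup X) (hA : Group.IsNilpotent ↥A) (g : X)
    (hgA : g ∈ A) (hgS : g ∈ S) (H : ∀ a ∈ A, a * g * a⁻¹ ∈ S → a ∈ S) : A ≤ S := by
  by_contra hne
  have hK : S.subgroupOf A < ⊤ := lt_top_iff_ne_top.2 (fun h => hne (Subgroup.subgroupOf_eq_top.1 h))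
  have hN := Group.normalizerCondition_of_isNilpotent (G := A) (S.subgroupOf A) hK
  obtain ⟨a, haN, haK⟩ := SetLike.exists_of_lt hN
  apply haK
  have h1 : a * ⟨g, hgA⟩ * a⁻¹ ∈ S.subgroupOf A :=
    (Subgroup.mem_normalizer_iff.1 haN ⟨g, hgA⟩).1 (Subgroup.mem_subgroupOf.2 hgS)
  exact Subgroup.mem_subgroupOf.2 (H a a.2 (Subgroup.mem_subgroupOf.1 h1))

end Cfsg.Agent.Lib.Helper7.NMC
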