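import Cfsg.Agent.Lib.Helper7.NMC.Defs

set_option autoImplicit false

namespace Cfsg.Agent.Lib.Helper7.NMC

open Matrix

variable {n : ℕ} {F : Type*} [Field F]

theorem uv1_mulVec (v w : Fin 2 → F) :
    (uv v : Matrix (Fin 2) (Fin 2) F) *ᵥ w = w + (v 0 * w 1 - v 1 * w 0) • v := by
  ext i
  fin_cases i <;> simp [uv, Matrix.mulVec, dotProduct, Fin.sum_univ_two] <;> ring

theorem uv1_fix (v : Fin 2 → F) : (uv v : Matrix (Fin 2) (Fin 2) F) *ᵥ v = v := by
  rw [uv1_mulVec]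
  have : v 0 * v 1 - v 1 * v 0 = 0 := by ring
  rw [this, zero_smul, add_zero]

/-- UV1. -/
theorem uv_eigen (v w : Fin 2 → F) (hv : v ≠ 0) (hw : w ≠ 0) (c : F)
    (h : (uv v : Matrix (Fin 2) (Fin 2) F) *ᵥ w = c • w) : ∃ d : F, d ≠ 0 ∧ w = d • v := by
  rw [uv1_mulVec] at h
  have h0 := congrFun h 0
  have h1 := congrFun h 1
  simp only [Pi.add_apply, Pi.smul_apply, smul_eq_mul] at h0 h1
  have hβ2 : (v 0 * w 1 - v 1 * w 0) ^ 2 = 0 := by
    linear_combination w 1 * h0 - w 0 * h1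
  have hβ : v 0 * w 1 - v 1 * w 0 = 0 := by
    exact pow_eq_zero_iff (two_ne_zero) |>.mp hβ2
  by_cases hv0 : v 0 = 0
  · have hv1 : v 1 ≠ 0 := by
      intro hv1
      apply hv
      ext i
      fin_cases i
      · exact hv0
      · exact hv1
    have hw0 : w 0 = 0 := by
      rw [hv0] at hβ
      have : v 1 * w 0 = 0 := by linear_combination -hβ
      rcases mul_eq_zero.mp this with h | h
      · exact absurd h hv1
      · exact h
    have hwv : w = (w 1 / v 1) • v := by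
      ext i
      fin_cases i
      · simp [hv0, hw0]
      · simp [hv1]
    refine ⟨w 1 / v 1, ?_, hwv⟩
    intro hd
    apply hw
    rw [hwv, hd, zero_smul]
  · have hwv : w = (w 0 / v 0) • v := by
      ext i
      fin_cases i
      · simp [hv0]
      · simp only [Fin.mk_one, Fin.isValue, Pi.smul_apply, smul_eq_mul]
        field_simp
        linear_combination hβ
    refine ⟨w 0 / v 0, ?_, hwv⟩
    intro hd
    apply hw
    rw [hwv, hd, zero_smul]

/-- UV1. -/
theorem uv_mem (v : Fin 2 → F) : Matrix.SpecialLinearGroup.toGL (uv v) ∈ stabL v := by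
  have h1 : ((Matrix.SpecialLinearGroup.toGL (uv v) : GL (Fin 2) F) : Matrix (Fin 2) (Fin 2) F) *ᵥ v
      = v := uv1_fix v
  refine ⟨⟨1, by rw [h1, one_smul]⟩, ⟨1, ?_⟩⟩
  have h2 : (((Matrix.SpecialLinearGroup.toGL (uv v))⁻¹ : GL (Fin 2) F) : Matrix (Fin 2) (Fin 2) F) *ᵥ
      (((Matrix.SpecialLinearGroup.toGL (uv v) : GL (Fin 2) F) : Matrix (Fin 2) (Fin 2) F) *ᵥ v) = v := by
    rw [Matrix.mulVec_mulVec, ← Units.val_mul, inv_mul_cancel, Units.val_one, Matrix.one_mulVec]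
  rw [h1] at h2
  rw [h2, one_smul]

end Cfsg.Agent.Lib.Helper7.NMC
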