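import Cfsg.Agent.Lib.Helper7.NMC.Defs
import Cfsg.Agent.Lib.Helper7.NMC.UV1

set_option autoImplicit false

namespace Cfsg.Agent.Lib.Helper7.NMC

open Matrix

variable {n : ℕ} {F : Type*} [Field F]

theorem uv2_inv_mulVec (a : GL (Fin n) F) (x : Fin n → F) :
    ((a⁻¹ : GL (Fin n) F) : Matrix (Fin n) (Fin n) F) *ᵥ ((a : Matrix (Fin n) (Fin n) F) *ᵥ x) = x := by
  rw [Matrix.mulVec_mulVec, ← Units.val_mul, inv_mul_cancel, Units.val_one, Matrix.one_mulVec]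

theorem uv2_mulVec_inv (a : GL (Fin n) F) (x : Fin n → F) :
    (a : Matrix (Fin n) (Fin n) F) *ᵥ (((a⁻¹ : GL (Fin n) F) : Matrix (Fin n) (Fin n) F) *ᵥ x) = x := by
  rw [Matrix.mulVec_mulVec, ← Units.val_mul, mul_inv_cancel, Units.val_one, Matrix.one_mulVec]

/-- if `a⁻¹ v = d v` with `d ≠ 0` then `a` stabilises the line of `v`. -/
theorem uv2_mem_of_inv (v : Fin n → F) (a : GL (Fin n) F) (d : F) (hd : d ≠ 0)
    (h : ((a⁻¹ : GL (Fin n) F) : Matrix (Fin n) (Fin n) F) *ᵥ v = d • v) : a ∈ stabL v := by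
  refine ⟨⟨d⁻¹, ?_⟩, ⟨d, h⟩⟩
  have h1 := uv2_mulVec_inv a v
  rw [h, Matrix.mulVec_smul] at h1
  calc (a : Matrix (Fin n) (Fin n) F) *ᵥ v
      = d⁻¹ • (d • ((a : Matrix (Fin n) (Fin n) F) *ᵥ v)) := by
        rw [smul_smul, inv_mul_cancel₀ hd, one_smul]
    _ = d⁻¹ • v := by rw [h1]

/-- UV2. -/
theorem uv_H (v : Fin 2 → F) (hv : v ≠ 0) (a : GL (Fin 2) F)
    (h : a * Matrix.SpecialLinearGroup.toGL (uv v) * a⁻¹ ∈ stabL v) : a ∈ stabL v := by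
  obtain ⟨⟨c, hc⟩, -⟩ := h
  obtain ⟨w, hw⟩ : ∃ w, w = ((a⁻¹ : GL (Fin 2) F) : Matrix (Fin 2) (Fin 2) F) *ᵥ v := ⟨_, rfl⟩
  have hw0 : w ≠ 0 := by
    intro h0
    apply hv
    have := uv2_mulVec_inv a v
    rw [← hw, h0, Matrix.mulVec_zero] at this
    exact this.symm
  have h1 : (uv v : Matrix (Fin 2) (Fin 2) F) *ᵥ w = c • w := by
    rw [Units.val_mul, Units.val_mul, ← Matrix.mulVec_mulVec, ← Matrix.mulVec_mulVec, ← hw] at hc
    have h2 := congrArg (fun x => ((a⁻¹ : GL (Fin 2) F) : Matrix (Fin 2) (Fin 2) F) *ᵥ x) hc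
    simp only [uv2_inv_mulVec, Matrix.mulVec_smul, ← hw] at h2
    exact h2
  obtain ⟨d, hd, hwd⟩ := uv_eigen v w hv hw0 c h1
  exact uv2_mem_of_inv v a d hd (by rw [← hw, hwd])

theorem uv2_stabL_smul (v : Fin n → F) (d : F) (hd : d ≠ 0) : stabL (d • v) = stabL v := by
  have key : ∀ (M : Matrix (Fin n) (Fin n) F), (∃ c : F, M *ᵥ (d • v) = c • (d • v)) ↔
      ∃ c : F, M *ᵥ v = c • v := by
    intro M
    constructor
    · rintro ⟨c, hc⟩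
      refine ⟨c, ?_⟩
      rw [Matrix.mulVec_smul, smul_comm c d v] at hc
      exact smul_right_injective _ hd hc
    · rintro ⟨c, hc⟩
      exact ⟨c, by rw [Matrix.mulVec_smul, hc, smul_comm]⟩
  ext g
  constructor
  · rintro ⟨h1, h2⟩
    exact ⟨(key _).mp h1, (key _).mp h2⟩
  · rintro ⟨h1, h2⟩
    exact ⟨(key _).mpr h1, (key _).mpr h2⟩

/-- UV2. -/
theorem stabL_eq_of_uv_mem (v v' : Fin 2 → F) (hv : v ≠ 0) (hv' : v' ≠ 0)
    (h : Matrix.SpecialLinearGroup.toGL (uv v) ∈ stabL v') : stabL v = stabL v' := by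
  obtain ⟨⟨c, hc⟩, -⟩ := h
  obtain ⟨d, hd, hvd⟩ := uv_eigen v v' hv hv' c hc
  rw [hvd, uv2_stabL_smul v d hd]

end Cfsg.Agent.Lib.Helper7.NMC
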