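import Cfsg.Agent.Lib.Helper7.NMC.Defs
import Cfsg.Agent.Lib.Helper7.NMC.NIL
import Cfsg.Agent.Lib.Helper7.NMC.UV1
import Cfsg.Agent.Lib.Helper7.NMC.UV2

set_option autoImplicit false

namespace Cfsg.Agent.Lib.Helper7.NMC

open Matrix

variable {n : ℕ} {F : Type*} [Field F]

/-- eigenvectors of `diag(l, l⁻¹)`, `l² ≠ 1` -/
theorem dg2_eigen (l : Fˣ) (hl : l ^ 2 ≠ 1) (w : Fin 2 → F) (c : F)
    (h : (dg l : Matrix (Fin 2) (Fin 2) F) *ᵥ w = c • w) : w 0 = 0 ∨ w 1 = 0 := by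
  by_contra hcon
  push Not at hcon
  obtain ⟨h0, h1⟩ := hcon
  have e0 := congrFun h 0
  have e1 := congrFun h 1
  simp [dg, Matrix.mulVec, dotProduct, Fin.sum_univ_two] at e0 e1
  have e0' : (l : F) = c := by
    rcases e0 with e | e
    · exact e
    · exact absurd e h0
  have e1' : (l : F)⁻¹ = c := by
    rcases e1 with e | e
    · exact e
    · exact absurd e h1
  apply hl
  apply Units.ext
  have hl0 : (l : F) ≠ 0 := l.ne_zero
  rw [Units.val_pow_eq_pow_val, Units.val_one, sq]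
  have : (l : F) = (l : F)⁻¹ := e0'.trans e1'.symm
  calc (l : F) * l = (l : F) * (l : F)⁻¹ := by rw [← this]
    _ = 1 := mul_inv_cancel₀ hl0

theorem dg2_inv_mulVec (g : GL (Fin 2) F) (x : Fin 2 → F) :
    ((g⁻¹ : GL (Fin 2) F) : Matrix (Fin 2) (Fin 2) F) *ᵥ ((g : Matrix (Fin 2) (Fin 2) F) *ᵥ x) = x := by
  rw [Matrix.mulVec_mulVec, ← Units.val_mul, inv_mul_cancel, Units.val_one, Matrix.one_mulVec]

theorem dg2_mulVec_inv (g : GL (Fin 2) F) (x : Fin 2 → F) :
    (g : Matrix (Fin 2) (Fin 2) F) *ᵥ (((g⁻¹ : GL (Fin 2) F) : Matrix (Fin 2) (Fin 2) F) *ᵥ x) = x := by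
  rw [Matrix.mulVec_mulVec, ← Units.val_mul, mul_inv_cancel, Units.val_one, Matrix.one_mulVec]

theorem dg2_mem_of_eigen (g : GL (Fin 2) F) (x : Fin 2 → F) (hx : x ≠ 0) (c : F)
    (h : (g : Matrix (Fin 2) (Fin 2) F) *ᵥ x = c • x) : g ∈ stabL x := by
  refine ⟨⟨c, h⟩, ⟨c⁻¹, ?_⟩⟩
  have h1 := dg2_inv_mulVec g x
  rw [h, Matrix.mulVec_smul] at h1
  have hc : c ≠ 0 := by
    rintro rfl
    rw [zero_smul] at h1
    exact hx h1.symm
  calc ((g⁻¹ : GL (Fin 2) F) : Matrix (Fin 2) (Fin 2) F) *ᵥ x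
      = c⁻¹ • (c • (((g⁻¹ : GL (Fin 2) F) : Matrix (Fin 2) (Fin 2) F) *ᵥ x)) := by
        rw [smul_smul, inv_mul_cancel₀ hc, one_smul]
    _ = c⁻¹ • x := by rw [h1]

theorem dg2_off (l : Fˣ) (i j : Fin 2) (hij : i ≠ j) :
    (dg l : Matrix (Fin 2) (Fin 2) F) i j = 0 := by
  fin_cases i <;> fin_cases j <;> first | exact absurd rfl hij | simp [dg]

theorem dg2_or (w : Fin 2 → F) (i j : Fin 2) (hij : i ≠ j) (h : w 0 = 0 ∨ w 1 = 0) :
    w i = 0 ∨ w j = 0 := by
  fin_cases i <;> fin_cases j <;> first | exact absurd rfl hij | exact h | exact h.symm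

/-- DG2. -/
theorem dg_uv_not_nilpotent (l : Fˣ) (hl : l ^ 2 ≠ 1) (v : Fin 2 → F) (hv : v ≠ 0)
    (A : Subgroup (GL (Fin 2) F)) (hA : Group.IsNilpotent ↥A)
    (h1 : Matrix.SpecialLinearGroup.toGL (uv v) ∈ A) : Matrix.SpecialLinearGroup.toGL (dg l) ∉ A := by
  intro ht
  have hAv : A ≤ stabL v :=
    nil_le A (stabL v) hA _ h1 (uv_mem v) (fun a _ h => uv_H v hv a h)
  have main : ∀ (i j : Fin 2), i ≠ j → v j = 0 → False := by
    intro i j hij hvj
    have hk : ∀ k : Fin 2, k = i ∨ k = j := by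
      intro k
      fin_cases i <;> fin_cases j <;> fin_cases k <;> simp_all
    have hvi : v i ≠ 0 := by
      intro h
      apply hv
      funext k
      rcases hk k with rfl | rfl
      · exact h
      · exact hvj
    obtain ⟨e', he'⟩ : ∃ e' : Fin 2 → F, e' = Pi.single j 1 := ⟨_, rfl⟩
    have he'j : e' j = 1 := by simp [he']
    have he'i : e' i = 0 := by simp [he', hij]
    have he'0 : e' ≠ 0 := by
      intro h
      have := congrFun h j
      rw [he'j] at this
      exact one_ne_zero this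
    have hpar : ∀ w : Fin 2 → F, w i = 0 → w = w j • e' := by
      intro w hw
      funext k
      rcases hk k with rfl | rfl
      · simp [hw, he'i]
      · simp [he'j]
    have hparv : ∀ w : Fin 2 → F, w j = 0 → w = (w i / v i) • v := by
      intro w hw
      funext k
      rcases hk k with rfl | rfl
      · simp [hvi]
      · simp [hw, hvj]
    have hoff : (dg l : Matrix (Fin 2) (Fin 2) F) i j = 0 := dg2_off l i j hij
    have ht' : Matrix.SpecialLinearGroup.toGL (dg l) ∈ stabL e' := by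
      apply dg2_mem_of_eigen _ e' he'0 (((dg l : Matrix (Fin 2) (Fin 2) F) *ᵥ e') j)
      apply hpar
      change ((dg l : Matrix (Fin 2) (Fin 2) F) *ᵥ e') i = 0
      rw [he', Matrix.mulVec_single_one]
      exact hoff
    have hAe : A ≤ stabL e' := by
      apply nil_le A (stabL e') hA _ ht ht'
      intro a haA h
      obtain ⟨⟨d, hd⟩, -⟩ := h
      obtain ⟨⟨c, hc⟩, -⟩ := hAv haA
      obtain ⟨w, hw⟩ : ∃ w : Fin 2 → F,
        w = ((a⁻¹ : GL (Fin 2) F) : Matrix (Fin 2) (Fin 2) F) *ᵥ e' := ⟨_, rfl⟩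
      have haw : (a : Matrix (Fin 2) (Fin 2) F) *ᵥ w = e' := by rw [hw, dg2_mulVec_inv]
      have htw : (dg l : Matrix (Fin 2) (Fin 2) F) *ᵥ w = d • w := by
        rw [Units.val_mul, Units.val_mul, ← Matrix.mulVec_mulVec, ← Matrix.mulVec_mulVec, ← hw] at hd
        have h2 := congrArg (fun x => ((a⁻¹ : GL (Fin 2) F) : Matrix (Fin 2) (Fin 2) F) *ᵥ x) hd
        simp only [dg2_inv_mulVec, Matrix.mulVec_smul, ← hw] at h2
        exact h2
      have hcases : w i = 0 ∨ w j = 0 := dg2_or w i j hij (dg2_eigen l hl w d htw)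
      rcases hcases with hwi | hwj
      · have h3 : a⁻¹ ∈ stabL e' := by
          apply dg2_mem_of_eigen _ e' he'0 (w j)
          rw [← hw]
          exact hpar w hwi
        have := (stabL e').inv_mem h3
        rwa [inv_inv] at this
      · exfalso
        have h3 := hparv w hwj
        rw [h3, Matrix.mulVec_smul, hc] at haw
        have := congrFun haw j
        simp [hvj, he'j] at this
    obtain ⟨⟨c, hc⟩, -⟩ := hAe h1
    obtain ⟨d, -, hd⟩ := uv_eigen v e' hv he'0 c hc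
    have := congrFun hd j
    simp [hvj, he'j] at this
  obtain ⟨⟨c, hc⟩, -⟩ := hAv ht
  rcases dg2_eigen l hl v c hc with h0 | h0
  · exact main 1 0 (by decide) h0
  · exact main 0 1 (by decide) h0

end Cfsg.Agent.Lib.Helper7.NMC
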