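import Cfsg.Agent.Lib.Helper7.NMC.Defs

set_option autoImplicit false

namespace Cfsg.Agent.Lib.Helper7.NMC

open Matrix

variable {n : ℕ} {F : Type*} [Field F]

/-- EXC. -/
theorem exc {X : Type*} [Group X] (𝓐 : Finset (Subgroup X)) (hc : IsCov 𝓐)
    (hmin : ∀ 𝓑 : Finset (Subgroup X), IsCov 𝓑 → 𝓐.card ≤ 𝓑.card)
    {ι : Type*} [Finite ι] (Mof : ι → Subgroup X) (wof : ι → X)
    (hp : ∀ i, Mof i ≠ ⊤) (hcov : ∀ x : X, ∃ i, x ∈ Mof i)
    (h1 : ∀ i, ∀ A ∈ 𝓐, wof i ∈ A → A ≤ Mof i)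
    (h2 : ∀ i j, wof i ∈ Mof j → wof j ∈ Mof i → Mof i = Mof j)
    (t : X) (h3 : ∀ i, ∀ A ∈ 𝓐, wof i ∈ A → t ∉ A) : False := by
  classical
  have := Fintype.ofFinite ι
  have hB : IsCov (Finset.univ.image Mof) := by
    refine ⟨fun A hA => ?_, fun g => ?_⟩
    · obtain ⟨i, _, rfl⟩ := Finset.mem_image.1 hA
      exact hp i
    · obtain ⟨i, hi⟩ := hcov g
      exact ⟨Mof i, Finset.mem_image_of_mem _ (Finset.mem_univ i), hi⟩
  have hle := hmin _ hB
  choose Aof hAof hwA using fun i => hc.2 (wof i)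
  have hwd : ∀ i j, Aof i = Aof j → Mof i = Mof j := by
    intro i j hij
    apply h2
    · exact h1 j (Aof j) (hAof j) (hwA j) (hij ▸ hwA i)
    · exact h1 i (Aof i) (hAof i) (hwA i) (hij ▸ hwA j)
  have hBC : (Finset.univ.image Mof).card ≤ (Finset.univ.image Aof).card := by
    have hsub : Finset.univ.image Mof ⊆ (Finset.univ.image Aof).image
        (fun A => if h : ∃ i, Aof i = A then Mof h.choose else ⊥) := by
      intro M hM
      obtain ⟨i, _, rfl⟩ := Finset.mem_image.1 hM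
      refine Finset.mem_image.2 ⟨Aof i, Finset.mem_image_of_mem _ (Finset.mem_univ i), ?_⟩
      have hex : ∃ j, Aof j = Aof i := ⟨i, rfl⟩
      rw [dif_pos hex]
      exact hwd _ _ hex.choose_spec
    exact (Finset.card_le_card hsub).trans Finset.card_image_le
  obtain ⟨At, hAt, htA⟩ := hc.2 t
  have hCA : Finset.univ.image Aof ⊆ 𝓐.erase At := by
    intro A hA
    obtain ⟨i, _, rfl⟩ := Finset.mem_image.1 hA
    refine Finset.mem_erase.2 ⟨?_, hAof i⟩
    intro heq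
    exact h3 i (Aof i) (hAof i) (hwA i) (heq ▸ htA)
  have h4 := Finset.card_le_card hCA
  have h5 := Finset.card_erase_lt_of_mem hAt
  omega

end Cfsg.Agent.Lib.Helper7.NMC
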