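import Cfsg.Agent.Lib.Helper7.NMC.Defs

set_option autoImplicit false

namespace Cfsg.Agent.Lib.Helper7.NMC

open Matrix

variable {n : ℕ} {F : Type*} [Field F]

/-- COMM. -/
theorem iter_comm {X : Type*} [Group X] (A : Subgroup X) (hA : Group.IsNilpotent ↥A) (s t : X)
    (hs : s ∈ A) (ht : t ∈ A) :
    ∃ k : ℕ, (fun x : X => x * t * x⁻¹ * t⁻¹)^[k] s = 1 := by
  have key : ∀ k : ℕ, ∃ h : (fun x : X => x * t * x⁻¹ * t⁻¹)^[k] s ∈ A,
      (⟨(fun x : X => x * t * x⁻¹ * t⁻¹)^[k] s, h⟩ : A) ∈ (⊤ : Subgroup A).lowerCentralSeries k := by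
    intro k
    induction k with
    | zero => exact ⟨hs, by simp⟩
    | succ k ih =>
      obtain ⟨h, hk⟩ := ih
      rw [Function.iterate_succ_apply']
      refine ⟨A.mul_mem (A.mul_mem (A.mul_mem h ht) (A.inv_mem h)) (A.inv_mem ht), ?_⟩
      rw [Subgroup.lowerCentralSeries_succ]
      exact Subgroup.commutator_mem_commutator hk (Subgroup.mem_top (⟨t, ht⟩ : A))
  obtain ⟨k, hk⟩ := Subgroup.nilpotent_iff_lowerCentralSeries.1 hA
  obtain ⟨h, hm⟩ := key k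
  rw [hk, Subgroup.mem_bot] at hm
  exact ⟨k, congrArg Subtype.val hm⟩

end Cfsg.Agent.Lib.Helper7.NMC
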