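import Cfsg.Agent.Lib.Helper7.NMC.Defs

set_option autoImplicit false

namespace Cfsg.Agent.Lib.Helper7.NMC

open Matrix

variable {n : ℕ} {F : Type*} [Field F]

/-- no invariant line: the characteristic polynomial has no root. -/
theorem five1_noroot (s : GL (Fin 2) F) (hs : IrrM s) (x : F) :
    x * x - ((s : Matrix (Fin 2) (Fin 2) F) 0 0 + (s : Matrix (Fin 2) (Fin 2) F) 1 1) * x +
      ((s : Matrix (Fin 2) (Fin 2) F) 0 0 * (s : Matrix (Fin 2) (Fin 2) F) 1 1 -
        (s : Matrix (Fin 2) (Fin 2) F) 0 1 * (s : Matrix (Fin 2) (Fin 2) F) 1 0) ≠ 0 := by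
  obtain ⟨S, hS⟩ : ∃ S, S = (s : Matrix (Fin 2) (Fin 2) F) := ⟨_, rfl⟩
  rw [← hS]
  intro hx
  by_cases h1 : (![S 0 1, x - S 0 0] : Fin 2 → F) = 0
  · have h01 : S 0 1 = 0 := by simpa using congrFun h1 0
    have hx0 : x - S 0 0 = 0 := by simpa using congrFun h1 1
    by_cases h2 : (![x - S 1 1, S 1 0] : Fin 2 → F) = 0
    · have h10 : S 1 0 = 0 := by simpa using congrFun h2 1
      have hne : (![1, 0] : Fin 2 → F) ≠ 0 := by
        intro h
        have := congrFun h 0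
        simp at this
      apply hs _ hne x
      rw [← hS]
      funext i
      fin_cases i
      · simp [Matrix.mulVec, dotProduct, Fin.sum_univ_two]
        linear_combination -hx0
      · simp [Matrix.mulVec, dotProduct, Fin.sum_univ_two]
        exact h10
    · apply hs _ h2 x
      rw [← hS]
      funext i
      fin_cases i
      · simp [Matrix.mulVec, dotProduct, Fin.sum_univ_two]
        linear_combination -hx
      · simp [Matrix.mulVec, dotProduct, Fin.sum_univ_two]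
        ring
  · apply hs _ h1 x
    rw [← hS]
    funext i
    fin_cases i
    · simp [Matrix.mulVec, dotProduct, Fin.sum_univ_two]
      ring
    · simp [Matrix.mulVec, dotProduct, Fin.sum_univ_two]
      linear_combination -hx

/-- FIVE1. -/
theorem five_pow_six [Fintype F] (h5 : Fintype.card F = 5) (s : GL (Fin 2) F) (hs : IrrM s) :
    IsSc (s ^ 6) := by
  have hroot := five1_noroot s hs
  obtain ⟨S, hS⟩ : ∃ S, S = (s : Matrix (Fin 2) (Fin 2) F) := ⟨_, rfl⟩
  rw [← hS] at hroot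
  obtain ⟨τ, hτ⟩ : ∃ τ, τ = S 0 0 + S 1 1 := ⟨_, rfl⟩
  obtain ⟨δ, hδ⟩ : ∃ δ, δ = S 0 0 * S 1 1 - S 0 1 * S 1 0 := ⟨_, rfl⟩
  rw [← hτ, ← hδ] at hroot
  have h50 : (5 : F) = 0 := by
    have h := Nat.cast_card_eq_zero F
    rw [h5] at h
    exact_mod_cast h
  have hτ5 : τ ^ 5 = τ := by
    have h := FiniteField.pow_card τ
    rwa [h5] at h
  have hns : ∀ y : F, y * y ≠ τ ^ 2 - 4 * δ := by
    intro y hy
    apply hroot (3 * (τ + y))
    linear_combination 9 * hy + (3 * τ ^ 2 + 3 * τ * y - 7 * δ) * h50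
  have hD0 : τ ^ 2 - 4 * δ ≠ 0 := by
    intro h0
    apply hns 0
    rw [h0, mul_zero]
  have hD4 : (τ ^ 2 - 4 * δ) ^ 4 = 1 := by
    have h := FiniteField.pow_card_sub_one_eq_one _ hD0
    rwa [h5] at h
  have hD2 : (τ ^ 2 - 4 * δ) ^ 2 = -1 := by
    have h1 : ((τ ^ 2 - 4 * δ) ^ 2 - 1) * ((τ ^ 2 - 4 * δ) ^ 2 + 1) = 0 := by linear_combination hD4
    rcases mul_eq_zero.1 h1 with h2 | h2
    · exfalso
      have h3 : ((τ ^ 2 - 4 * δ) - 1) * ((τ ^ 2 - 4 * δ) + 1) = 0 := by linear_combination h2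
      rcases mul_eq_zero.1 h3 with h4 | h4
      · apply hns 1
        linear_combination -h4
      · apply hns 2
        linear_combination -h4 + h50
    · linear_combination h2
  have hc6 : τ * (τ ^ 2 - δ) * (τ ^ 2 - 3 * δ) = 0 := by
    linear_combination (3 * τ) * hD2 - 2 * hτ5 + (4 * τ ^ 3 * δ - 9 * τ * δ ^ 2 - τ) * h50
  have h2 : S * S = τ • S - δ • (1 : Matrix (Fin 2) (Fin 2) F) := by
    ext i j
    fin_cases i <;> fin_cases j <;>
      simp [Matrix.mul_apply, Fin.sum_univ_two, hτ, hδ] <;> ring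
  have h3 : S * S * S = (τ ^ 2 - δ) • S - (τ * δ) • (1 : Matrix (Fin 2) (Fin 2) F) := by
    rw [h2, sub_mul, smul_mul_assoc, h2, smul_mul_assoc, one_mul]
    module
  have h6 : S ^ 6 = (S * S * S) * (S * S * S) := by
    simp only [pow_succ, pow_zero, one_mul, mul_assoc]
  have h6' : S ^ 6 = (τ * (τ ^ 2 - δ) * (τ ^ 2 - 3 * δ)) • S +
      ((τ * δ) ^ 2 - (τ ^ 2 - δ) ^ 2 * δ) • (1 : Matrix (Fin 2) (Fin 2) F) := by
    rw [h6, h3]
    simp only [sub_mul, mul_sub, smul_mul_assoc, mul_smul_comm, one_mul, mul_one, h2]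
    module
  refine ⟨(τ * δ) ^ 2 - (τ ^ 2 - δ) ^ 2 * δ, ?_⟩
  rw [Units.val_pow_eq_pow_val, ← hS, h6', hc6, zero_smul, zero_add]

end Cfsg.Agent.Lib.Helper7.NMC
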