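import Cfsg.Agent.Lib.Helper7.NMC.NF1
import Cfsg.Agent.Lib.Helper7.NMC.NF2

set_option autoImplicit false

namespace Cfsg.Agent.Lib.Helper7.NMC

open Matrix

variable {n : ℕ} {F : Type*} [Field F]

/-- a conjugate of `x` is scalar only if `x` is. -/
theorem nf4_isSc_conj (a x : GL (Fin n) F) (h : IsSc (a * x * a⁻¹)) : IsSc x := by
  obtain ⟨c, hc⟩ := h
  refine ⟨c, ?_⟩
  have e : x = a⁻¹ * (a * x * a⁻¹) * a := by group
  conv_lhs => rw [e]
  rw [Units.val_mul, Units.val_mul, hc, Matrix.mul_smul, Matrix.smul_mul, Matrix.mul_one,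
    ← Units.val_mul, inv_mul_cancel, Units.val_one]

/-- an irreducible element of `GL_2` is not scalar. -/
theorem nf4_not_isSc (s : GL (Fin 2) F) (hs : IrrM s) : ¬ IsSc s := by
  rintro ⟨c, hc⟩
  have hv : (Pi.single 0 1 : Fin 2 → F) ≠ 0 := by
    intro h
    have := congrFun h 0
    simp at this
  apply hs _ hv c
  rw [hc, Matrix.smul_mulVec, Matrix.one_mulVec]

/-- NF4 (uses NF1 NF2). -/
theorem normF_H (s a : GL (Fin 2) F) (hs : IrrM s) (hs2 : ¬ IsSc (s ^ 2))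
    (h : a * s * a⁻¹ ∈ normF s) : a ∈ normF s := by
  rcases normF_cases s (a * s * a⁻¹) hs h with ⟨α, β, hy⟩ | hsw
  · have hβ : β ≠ 0 := by
      intro h0
      apply nf4_not_isSc s hs
      apply nf4_isSc_conj a
      exact ⟨α, by rw [hy, h0, zero_smul, add_zero]⟩
    refine ⟨⟨α, β, hy⟩, ⟨-(β⁻¹ * α), β⁻¹, ?_⟩⟩
    have e1 : (s : Matrix (Fin 2) (Fin 2) F) = α • (1 : Matrix (Fin 2) (Fin 2) F) +
        β • ((a⁻¹ * s * a : GL (Fin 2) F) : Matrix (Fin 2) (Fin 2) F) := by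
      have e : s = a⁻¹ * (a * s * a⁻¹) * a := by group
      conv_lhs => rw [e]
      rw [Units.val_mul, Units.val_mul, hy, Matrix.mul_add, Matrix.add_mul, Matrix.mul_smul,
        Matrix.smul_mul, Matrix.mul_smul, Matrix.smul_mul, Matrix.mul_one, ← Units.val_mul,
        inv_mul_cancel, Units.val_one, ← Units.val_mul, ← Units.val_mul]
    generalize ((a⁻¹ * s * a : GL (Fin 2) F) : Matrix (Fin 2) (Fin 2) F) = X at e1 ⊢
    rw [e1, smul_add, smul_smul, smul_smul, inv_mul_cancel₀ hβ, one_smul, ← add_assoc, ← add_smul,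
      neg_add_cancel, zero_smul, zero_add]
  · exfalso
    apply hs2
    apply nf4_isSc_conj a
    have e : a * s ^ 2 * a⁻¹ = (a * s * a⁻¹) ^ 2 := by
      rw [sq, sq]; group
    rw [e]
    exact sq_scalar_of_swap s _ hs hsw

end Cfsg.Agent.Lib.Helper7.NMC
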