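import Cfsg.Agent.Lib.Helper7.NMC.Defs

set_option autoImplicit false

namespace Cfsg.Agent.Lib.Helper7.NMC

open Matrix

variable {n : ℕ} {F : Type*} [Field F]

theorem wit_self_mem (s g : GL (Fin 2) F) (h : g * s = s * g) : g ∈ normF s := by
  refine ⟨⟨0, 1, ?_⟩, ⟨0, 1, ?_⟩⟩
  · have : g * s * g⁻¹ = s := by rw [h]; group
    rw [this]; simp
  · have : g⁻¹ * s * g = s := by rw [mul_assoc, ← h]; group
    rw [this]; simp

theorem wit_irr (s g : GL (Fin 2) F) (hs : IrrM s) (a b : F) (hb : b ≠ 0)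
    (hg : (g : Matrix (Fin 2) (Fin 2) F) = a • (1 : Matrix (Fin 2) (Fin 2) F) + b • (s : Matrix (Fin 2) (Fin 2) F)) :
    IrrM g := by
  intro v hv c hc
  apply hs v hv (b⁻¹ * (c - a))
  rw [hg, Matrix.add_mulVec, Matrix.smul_mulVec, Matrix.smul_mulVec, Matrix.one_mulVec] at hc
  have : b • ((s : Matrix (Fin 2) (Fin 2) F) *ᵥ v) = (c - a) • v := by
    rw [sub_smul, ← hc]; abel
  rw [mul_smul, ← this, smul_smul, inv_mul_cancel₀ hb, one_smul]

theorem exists_witness [Fintype F] (hq : 4 ≤ Fintype.card F) (g : GL (Fin 2) F) (hg : IrrM g) :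
    ∃ s : GL (Fin 2) F, (s = g ∨ ∃ (y : Matrix.SpecialLinearGroup (Fin 2) F) (c : F),
        (s : Matrix (Fin 2) (Fin 2) F) = c • (y : Matrix (Fin 2) (Fin 2) F)) ∧
      IrrM s ∧ ¬ IsSc (s ^ 2) ∧ g ∈ normF s := by
  classical
  by_cases h2 : IsSc (g ^ 2)
  swap
  · exact ⟨g, Or.inl rfl, hg, h2, wit_self_mem g g rfl⟩
  obtain ⟨δ, hδ⟩ := h2
  set G : Matrix (Fin 2) (Fin 2) F := (g : Matrix (Fin 2) (Fin 2) F) with hG
  have hGG : G * G = δ • (1 : Matrix (Fin 2) (Fin 2) F) := by
    rw [← hδ, pow_two, Units.val_mul]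
  have hq0 : G 0 1 ≠ 0 := by
    intro h0
    apply hg ![0, 1] (by intro h; have := congrFun h 1; simp at this) (G 1 1)
    ext i; fin_cases i <;> simp [Matrix.mulVec, dotProduct, Fin.sum_univ_two, h0, ← hG]
  have e00 : G 0 0 * G 0 0 + G 0 1 * G 1 0 = δ := by
    have := congrFun (congrFun hGG 0) 0
    simpa [Matrix.mul_apply, Fin.sum_univ_two] using this
  have e01 : G 0 0 * G 0 1 + G 0 1 * G 1 1 = 0 := by
    have := congrFun (congrFun hGG 0) 1
    simpa [Matrix.mul_apply, Fin.sum_univ_two] using this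
  have ht : G 1 1 = - G 0 0 := by
    have : G 0 1 * (G 0 0 + G 1 1) = 0 := by linear_combination e01
    rcases mul_eq_zero.mp this with h | h
    · exact absurd h hq0
    · linear_combination h
  have hns : ∀ ε : F, ε * ε ≠ δ := by
    intro ε hε
    apply hg ![G 0 1, ε - G 0 0]
      (by intro h; have := congrFun h 0; simp at this; exact hq0 this) ε
    ext i; fin_cases i
    · simp [Matrix.mulVec, dotProduct, Fin.sum_univ_two, ← hG]; ring
    · simp [Matrix.mulVec, dotProduct, Fin.sum_univ_two, ← hG, ht]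
      linear_combination e00 - hε
  have h2ne : (2 : F) ≠ 0 := by
    intro h
    have : CharP F 2 := CharTwo.of_one_ne_zero_of_two_eq_zero one_ne_zero h
    obtain ⟨ε, hε⟩ := FiniteField.isSquare_of_char_two (F := F) (ringChar.eq F 2) δ
    exact hns ε hε.symm
  -- choice of a
  obtain ⟨a, ha0, ha⟩ : ∃ a : F, a ≠ 0 ∧ a * a + δ ≠ 0 := by
    by_cases h1 : (1 : F) * 1 + δ = 0
    · have hc : ({0, 1, -1} : Finset F).card < Fintype.card F :=
        lt_of_le_of_lt (Finset.card_le_three) (by omega)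
      obtain ⟨a, ha⟩ : ∃ a : F, a ∉ ({0, 1, -1} : Finset F) := by
        by_contra hcon
        push Not at hcon
        have : (Finset.univ : Finset F) ⊆ {0, 1, -1} := fun x _ => hcon x
        have := Finset.card_le_card this
        rw [Finset.card_univ] at this
        omega
      simp only [Finset.mem_insert, Finset.mem_singleton, not_or] at ha
      refine ⟨a, ha.1, fun h => ?_⟩
      have : (a - 1) * (a + 1) = 0 := by linear_combination h - h1
      rcases mul_eq_zero.mp this with h | h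
      · exact ha.2.1 (by linear_combination h)
      · exact ha.2.2 (by linear_combination h)
    · exact ⟨1, one_ne_zero, h1⟩
  set k : Matrix (Fin 2) (Fin 2) F := a • (1 : Matrix (Fin 2) (Fin 2) F) + G with hk
  have hdet : k.det = a * a - δ := by
    rw [Matrix.det_fin_two, hk]
    simp [ht]
    linear_combination -e00
  have hd0 : a * a - δ ≠ 0 := fun h => hns a (by linear_combination h)
  have hdet0 : k.det ≠ 0 := by rw [hdet]; exact hd0
  set K : GL (Fin 2) F := Matrix.GeneralLinearGroup.mkOfDetNeZero k hdet0 with hK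
  have hKv : (K : Matrix (Fin 2) (Fin 2) F) = k := rfl
  have hkk : k * k = (a * a + δ) • (1 : Matrix (Fin 2) (Fin 2) F) + (2 * a) • G := by
    rw [hk, Matrix.add_mul, Matrix.mul_add, Matrix.mul_add, hGG]
    simp only [Matrix.smul_mul, Matrix.mul_smul, Matrix.one_mul, Matrix.mul_one, smul_smul]
    module
  have hsv : ((K * K : GL (Fin 2) F) : Matrix (Fin 2) (Fin 2) F) =
      (a * a + δ) • (1 : Matrix (Fin 2) (Fin 2) F) + (2 * a) • G := by
    rw [Units.val_mul, hKv, hkk]
  have hcomm : g * K = K * g := by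
    apply Units.ext
    rw [Units.val_mul, Units.val_mul, hKv, ← hG, hk, Matrix.mul_add, Matrix.add_mul]
    simp
  refine ⟨K * K, Or.inr ⟨⟨(a * a - δ)⁻¹ • (k * k), ?_⟩, a * a - δ, ?_⟩, ?_, ?_, ?_⟩
  · rw [Matrix.det_smul, Matrix.det_mul, hdet, Fintype.card_fin, pow_two, mul_mul_mul_comm,
      inv_mul_cancel₀ hd0, one_mul]
  · rw [Units.val_mul, hKv]
    simp only [smul_smul]
    rw [mul_inv_cancel₀ hd0, one_smul]
  · exact wit_irr g (K * K) hg _ _ (mul_ne_zero h2ne ha0) hsv
  · rintro ⟨c, hc⟩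
    rw [pow_two, Units.val_mul, hsv] at hc
    have := congrFun (congrFun hc 0) 1
    simp [Matrix.mul_apply, Fin.sum_univ_two, ht] at this
    have h4 : (2 * (2 * a)) * (a * a + δ) * G 0 1 = 0 := by linear_combination this
    exact (mul_ne_zero (mul_ne_zero (mul_ne_zero h2ne (mul_ne_zero h2ne ha0)) ha) hq0) h4
  · apply wit_self_mem
    rw [← mul_assoc, hcomm, mul_assoc, hcomm, mul_assoc]

end Cfsg.Agent.Lib.Helper7.NMC
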