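import Cfsg.Agent.Lib.Helper7.NMC.NIL
import Cfsg.Agent.Lib.Helper7.NMC.COMM
import Cfsg.Agent.Lib.Helper7.NMC.NF1
import Cfsg.Agent.Lib.Helper7.NMC.NF4
import Cfsg.Agent.Lib.Helper7.NMC.FIVE1
import Cfsg.Agent.Lib.Helper7.NMC.WIT

set_option autoImplicit false

namespace Cfsg.Agent.Lib.Helper7.NMC

open Matrix

variable {n : ℕ} {F : Type*} [Field F]

theorem five2_sc_iff (g : GL (Fin n) F) : IsSc g ↔ g ∈ Subgroup.center (GL (Fin n) F) := by
  rw [Matrix.GeneralLinearGroup.mem_center_iff_val_mem_range_scalar]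
  constructor
  · rintro ⟨c, hc⟩
    exact ⟨c, by rw [hc, Matrix.scalar_apply, Matrix.smul_one_eq_diagonal]⟩
  · rintro ⟨c, hc⟩
    exact ⟨c, by rw [← hc, Matrix.scalar_apply, Matrix.smul_one_eq_diagonal]⟩

theorem five2_mod (k : ℕ) : 2 ^ k % 6 = 1 ∨ 2 ^ k % 6 = 2 ∨ 2 ^ k % 6 = 4 := by
  induction k with
  | zero => left; rfl
  | succ k ih => rw [pow_succ]; omega

theorem five2_iter {X : Type*} [Group X] (s t d : X) (hd : d ∈ Subgroup.center X)
    (h : t * s * t⁻¹ = d * s⁻¹) (k : ℕ) :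
    ∃ z ∈ Subgroup.center X, (fun x : X => x * t * x⁻¹ * t⁻¹)^[k] s = z * s ^ (2 ^ k) := by
  induction k with
  | zero => exact ⟨1, Subgroup.one_mem _, by simp⟩
  | succ k ih =>
    obtain ⟨z, hz, hx⟩ := ih
    rw [Function.iterate_succ_apply', hx]
    refine ⟨(d ^ (2 ^ k))⁻¹, Subgroup.inv_mem _ (Subgroup.pow_mem _ hd _), ?_⟩
    have hDc : d ^ (2 ^ k) ∈ Subgroup.center X := Subgroup.pow_mem _ hd _
    have hconj : t * s ^ (2 ^ k) * t⁻¹ = d ^ (2 ^ k) * (s ^ (2 ^ k))⁻¹ := by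
      have hc : Commute d s⁻¹ := (Subgroup.mem_center_iff.mp hd s⁻¹).symm
      rw [← conj_pow, h, hc.mul_pow, inv_pow]
    have hfin : s ^ (2 ^ (k + 1)) = s ^ (2 ^ k) * s ^ (2 ^ k) := by
      rw [← pow_add, pow_succ, mul_two]
    rw [hfin]
    generalize s ^ (2 ^ k) = S at *
    generalize d ^ (2 ^ k) = D at *
    have hz' : ∀ g, g * z = z * g := Subgroup.mem_center_iff.mp hz
    have hzi : ∀ g, g * z⁻¹ = z⁻¹ * g := Subgroup.mem_center_iff.mp (Subgroup.inv_mem _ hz)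
    have hDi : ∀ g, g * D⁻¹ = D⁻¹ * g := Subgroup.mem_center_iff.mp (Subgroup.inv_mem _ hDc)
    have h1 : t * S⁻¹ * t⁻¹ = S * D⁻¹ := by
      have : (t * S * t⁻¹)⁻¹ = (D * S⁻¹)⁻¹ := by rw [hconj]
      simpa [mul_assoc] using this
    calc z * S * t * (z * S)⁻¹ * t⁻¹ = z * S * (t * S⁻¹ * t⁻¹) * z⁻¹ := by
          have e : (z * S)⁻¹ * t⁻¹ = S⁻¹ * t⁻¹ * z⁻¹ := by
            rw [_root_.mul_inv_rev, mul_assoc, ← hzi t⁻¹, mul_assoc]
          rw [mul_assoc (z * S * t), e]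
          simp only [mul_assoc]
      _ = z * S * (S * D⁻¹) * z⁻¹ := by rw [h1]
      _ = S * S * D⁻¹ := by
          rw [hzi]; group
      _ = D⁻¹ * (S * S) := by rw [hDi]

theorem five_not_nilpotent [Fintype F] (h5 : Fintype.card F = 5) (l : Fˣ) (hl : l ^ 2 ≠ 1)
    (s : GL (Fin 2) F) (hs : IrrM s) (hs2 : ¬ IsSc (s ^ 2))
    (A : Subgroup (GL (Fin 2) F)) (hA : Group.IsNilpotent ↥A) (h1 : s ∈ A) :
    Matrix.SpecialLinearGroup.toGL (dg l) ∉ A := by
  intro ht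
  set t : GL (Fin 2) F := Matrix.SpecialLinearGroup.toGL (dg l) with htdef
  have htv : (t : Matrix (Fin 2) (Fin 2) F) = !![(l : F), 0; 0, ((l⁻¹ : Fˣ) : F)] := rfl
  have hle : A ≤ normF s := nil_le A (normF s) hA s h1 (wit_self_mem s s rfl)
    (fun a _ h => normF_H s a hs hs2 h)
  have htn : t ∈ normF s := hle ht
  rcases normF_cases s t hs htn with ⟨a, b, hab⟩ | hsw
  · by_cases hb : b = 0
    · subst hb
      rw [htv] at hab
      have e0 := congrFun (congrFun hab 0) 0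
      have e1 := congrFun (congrFun hab 1) 1
      simp at e0 e1
      apply hl
      apply Units.ext
      rw [pow_two, Units.val_mul, Units.val_one]
      have h3 : (l : F) * ((l⁻¹ : Fˣ) : F) = 1 := by
        rw [← Units.val_mul, mul_inv_cancel, Units.val_one]
      have h4 : ((l⁻¹ : Fˣ) : F) = (l : F) := by
        rw [e0]; simpa using e1
      rw [h4] at h3
      exact h3
    · have := wit_irr s t hs a b hb hab
      apply this ![1, 0] (by intro h; have := congrFun h 0; simp at this) (l : F)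
      rw [htv]; ext i; fin_cases i <;> simp
  · have hCH : ((Matrix.trace (s : Matrix (Fin 2) (Fin 2) F)) • (1 : Matrix (Fin 2) (Fin 2) F)
        - (s : Matrix (Fin 2) (Fin 2) F)) * (s : Matrix (Fin 2) (Fin 2) F)
        = (Matrix.det (s : Matrix (Fin 2) (Fin 2) F)) • (1 : Matrix (Fin 2) (Fin 2) F) := by
      generalize (s : Matrix (Fin 2) (Fin 2) F) = S
      rw [Matrix.det_fin_two, Matrix.trace_fin_two]
      ext i j
      fin_cases i <;> fin_cases j <;> simp [Matrix.mul_apply, Fin.sum_univ_two] <;> ring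
    have hd : t * s * t⁻¹ * s ∈ Subgroup.center (GL (Fin 2) F) :=
      (five2_sc_iff _).mp ⟨_, by rw [Units.val_mul, hsw, hCH]⟩
    have hts : t * s * t⁻¹ = (t * s * t⁻¹ * s) * s⁻¹ := by rw [mul_inv_cancel_right]
    obtain ⟨k, hk⟩ := iter_comm A hA s t h1 ht
    obtain ⟨z, hz, hzk⟩ := five2_iter s t _ hd hts k
    rw [hk] at hzk
    have hpk : s ^ (2 ^ k) ∈ Subgroup.center (GL (Fin 2) F) := by
      have : s ^ (2 ^ k) = z⁻¹ := (inv_eq_of_mul_eq_one_right hzk.symm).symm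
      rw [this]; exact Subgroup.inv_mem _ hz
    have h6 : s ^ 6 ∈ Subgroup.center (GL (Fin 2) F) :=
      (five2_sc_iff _).mp (five_pow_six h5 s hs)
    apply hs2
    rw [five2_sc_iff]
    have hdiv : s ^ (2 ^ k) = (s ^ 6) ^ (2 ^ k / 6) * s ^ (2 ^ k % 6) := by
      rw [← pow_mul, ← pow_add, Nat.div_add_mod]
    have hr : s ^ (2 ^ k % 6) ∈ Subgroup.center (GL (Fin 2) F) := by
      have : s ^ (2 ^ k % 6) = ((s ^ 6) ^ (2 ^ k / 6))⁻¹ * s ^ (2 ^ k) := by
        rw [hdiv, inv_mul_cancel_left]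
      rw [this]
      exact Subgroup.mul_mem _ (Subgroup.inv_mem _ (Subgroup.pow_mem _ h6 _)) hpk
    rcases five2_mod k with h | h | h <;> rw [h] at hr
    · rw [pow_one] at hr; exact Subgroup.pow_mem _ hr 2
    · exact hr
    · have : s ^ 2 = s ^ 6 * (s ^ 4)⁻¹ := by group
      rw [this]; exact Subgroup.mul_mem _ h6 (Subgroup.inv_mem _ hr)

end Cfsg.Agent.Lib.Helper7.NMC
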