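import Cfsg.Agent.Lib.Helper7.NMC.Defs

set_option autoImplicit false

namespace Cfsg.Agent.Lib.Helper7.NMC

open Matrix

variable {n : ℕ} {F : Type*} [Field F]

/-- CLUB.  𝓑 := insert M ((𝓐.erase A₁).erase A₂) is a cover by proper subgroups with fewer members. -/
theorem club {X : Type*} [Group X] (𝓐 : Finset (Subgroup X)) (hc : IsCov 𝓐)
    (hmin : ∀ 𝓑 : Finset (Subgroup X), IsCov 𝓑 → 𝓐.card ≤ 𝓑.card)
    (M A₁ A₂ : Subgroup X) (hM : M ≠ ⊤) (h₁ : A₁ ∈ 𝓐) (h₂ : A₂ ∈ 𝓐) (hne : A₁ ≠ A₂)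
    (hl₁ : A₁ ≤ M) (hl₂ : A₂ ≤ M) : False := by
  classical
  have hcov : IsCov (insert M ((𝓐.erase A₁).erase A₂)) := by
    refine ⟨?_, ?_⟩
    · intro A hA
      rw [Finset.mem_insert] at hA
      rcases hA with rfl | hA
      · exact hM
      · exact hc.1 A (Finset.mem_of_mem_erase (Finset.mem_of_mem_erase hA))
    · intro g
      obtain ⟨A, hA, hgA⟩ := hc.2 g
      by_cases e1 : A = A₁
      · exact ⟨M, Finset.mem_insert_self _ _, hl₁ (e1 ▸ hgA)⟩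
      by_cases e2 : A = A₂
      · exact ⟨M, Finset.mem_insert_self _ _, hl₂ (e2 ▸ hgA)⟩
      exact ⟨A, Finset.mem_insert_of_mem
        (Finset.mem_erase.mpr ⟨e2, Finset.mem_erase.mpr ⟨e1, hA⟩⟩), hgA⟩
  have h := hmin _ hcov
  have hcard1 : (𝓐.erase A₁).card = 𝓐.card - 1 := Finset.card_erase_of_mem h₁
  have hmem2 : A₂ ∈ 𝓐.erase A₁ := Finset.mem_erase.mpr ⟨hne.symm, h₂⟩
  have hcard2 : ((𝓐.erase A₁).erase A₂).card = (𝓐.erase A₁).card - 1 :=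
    Finset.card_erase_of_mem hmem2
  have hle := Finset.card_insert_le M ((𝓐.erase A₁).erase A₂)
  have hpos : 0 < (𝓐.erase A₁).card := Finset.card_pos.mpr ⟨A₂, hmem2⟩
  omega

end Cfsg.Agent.Lib.Helper7.NMC
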