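import Cfsg.Agent.Lib.Helper7.NMC.Defs

set_option autoImplicit false

namespace Cfsg.Agent.Lib.Helper7.NMC

open Matrix

variable {n : ℕ} {F : Type*} [Field F]

theorem tr1_aux (G : Subgroup (GL (Fin n) F ⧸ Subgroup.center (GL (Fin n) F))) (A : Subgroup ↥G)
    (g : GL (Fin n) F) (hg : g ∈ hat G A) :
    ∃ a : ↥A, ((a : ↥G) : GL (Fin n) F ⧸ Subgroup.center (GL (Fin n) F)) =
      QuotientGroup.mk' (Subgroup.center (GL (Fin n) F)) g := by
  obtain ⟨a, ha, hag⟩ := hg
  exact ⟨⟨a, ha⟩, hag⟩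

/-- TR1.  the map ↥(hat G A) → ↥A, g ↦ ⟨⟨mk g, _⟩, _⟩ is a hom with kernel inside the centre: `isNilpotent_of_ker_le_center`. -/
theorem hat_nilpotent (G : Subgroup (GL (Fin n) F ⧸ Subgroup.center (GL (Fin n) F))) (A : Subgroup ↥G)
    (hA : Group.IsNilpotent ↥A) : Group.IsNilpotent ↥(hat G A) := by
  classical
  let φ : ↥(hat G A) → ↥A := fun g => (tr1_aux G A g.1 g.2).choose
  have hφ : ∀ g : ↥(hat G A), (((φ g : ↥A) : ↥G) : GL (Fin n) F ⧸ Subgroup.center (GL (Fin n) F)) =
      QuotientGroup.mk' (Subgroup.center (GL (Fin n) F)) g.1 :=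
    fun g => (tr1_aux G A g.1 g.2).choose_spec
  let f : ↥(hat G A) →* ↥A :=
    { toFun := φ
      map_one' := by
        apply Subtype.ext
        apply Subtype.ext
        rw [hφ]
        simp
      map_mul' := by
        intro x y
        apply Subtype.ext
        apply Subtype.ext
        rw [hφ]
        simp only [Subgroup.coe_mul, map_mul]
        rw [hφ, hφ] }
  haveI := hA
  apply Subgroup.isNilpotent_of_ker_le_center f ?_
  intro x hx
  rw [MonoidHom.mem_ker] at hx
  have h1 : QuotientGroup.mk' (Subgroup.center (GL (Fin n) F)) x.1 = 1 := by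
    rw [← hφ x]
    have : φ x = 1 := hx
    rw [this]
    simp
  have h2 : x.1 ∈ Subgroup.center (GL (Fin n) F) := by
    rwa [QuotientGroup.mk'_apply, QuotientGroup.eq_one_iff] at h1
  rw [Subgroup.mem_center_iff]
  intro y
  apply Subtype.ext
  exact (Subgroup.mem_center_iff.mp h2) y.1

end Cfsg.Agent.Lib.Helper7.NMC
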