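import Cfsg.Agent.Lib.Helper7.NMC.Defs

set_option autoImplicit false

namespace Cfsg.Agent.Lib.Helper7.NMC

open Matrix

variable {n : ℕ} {F : Type*} [Field F]

/-- TR2. -/
theorem mem_hat (G : Subgroup (GL (Fin n) F ⧸ Subgroup.center (GL (Fin n) F))) (A : Subgroup ↥G)
    (g : GL (Fin n) F) (hg : QuotientGroup.mk' (Subgroup.center (GL (Fin n) F)) g ∈ G) :
    g ∈ hat G A ↔ (⟨QuotientGroup.mk' (Subgroup.center (GL (Fin n) F)) g, hg⟩ : ↥G) ∈ A := by
  unfold hat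
  rw [Subgroup.mem_comap, Subgroup.mem_map]
  constructor
  · rintro ⟨a, ha, hag⟩
    have h2 : a = ⟨_, hg⟩ := Subtype.ext hag
    rwa [← h2]
  · intro h
    exact ⟨_, h, rfl⟩

/-- TR2. -/
theorem le_low (G : Subgroup (GL (Fin n) F ⧸ Subgroup.center (GL (Fin n) F))) (A : Subgroup ↥G)
    (M : Subgroup (GL (Fin n) F)) (h : hat G A ≤ M) : A ≤ low G M := by
  intro a ha
  obtain ⟨g, hg⟩ := QuotientGroup.mk'_surjective (Subgroup.center (GL (Fin n) F)) a.1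
  have hgG : QuotientGroup.mk' (Subgroup.center (GL (Fin n) F)) g ∈ G := by rw [hg]; exact a.2
  have hgh : g ∈ hat G A := by
    rw [mem_hat G A g hgG]
    have h2 : (⟨QuotientGroup.mk' (Subgroup.center (GL (Fin n) F)) g, hgG⟩ : ↥G) = a :=
      Subtype.ext hg
    rwa [h2]
  unfold low
  rw [Subgroup.mem_subgroupOf]
  exact Subgroup.mem_map.mpr ⟨g, h hgh, hg⟩

/-- TR2. -/
theorem mem_low (G : Subgroup (GL (Fin n) F ⧸ Subgroup.center (GL (Fin n) F)))
    (M : Subgroup (GL (Fin n) F)) (hZ : Subgroup.center (GL (Fin n) F) ≤ M)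
    (g : GL (Fin n) F) (hg : QuotientGroup.mk' (Subgroup.center (GL (Fin n) F)) g ∈ G) :
    (⟨QuotientGroup.mk' (Subgroup.center (GL (Fin n) F)) g, hg⟩ : ↥G) ∈ low G M ↔ g ∈ M := by
  unfold low
  rw [Subgroup.mem_subgroupOf, Subgroup.mem_map]
  constructor
  · rintro ⟨m, hm, hmg⟩
    have h2 : m⁻¹ * g ∈ Subgroup.center (GL (Fin n) F) := QuotientGroup.eq.mp hmg
    have h3 := M.mul_mem hm (hZ h2)
    rwa [mul_inv_cancel_left] at h3
  · intro h
    exact ⟨g, h, rfl⟩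

end Cfsg.Agent.Lib.Helper7.NMC
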