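import Cfsg.Agent.Lib.Helper7.NMC.Defs

set_option autoImplicit false

namespace Cfsg.Agent.Lib.Helper7.NMC

open Matrix

variable {n : ℕ} {F : Type*} [Field F]

theorem tr3_scalar {z : GL (Fin n) F} (hz : z ∈ Subgroup.center (GL (Fin n) F)) :
    ∃ a : F, (z : Matrix (Fin n) (Fin n) F) = a • (1 : Matrix (Fin n) (Fin n) F) := by
  obtain ⟨a, ha⟩ := Matrix.GeneralLinearGroup.mem_center_iff_val_mem_range_scalar.mp hz
  refine ⟨a, ?_⟩
  rw [← ha, Matrix.scalar_apply, Matrix.smul_one_eq_diagonal]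

theorem center_le_stabL (v : Fin n → F) : Subgroup.center (GL (Fin n) F) ≤ stabL v := by
  intro z hz
  obtain ⟨a, ha⟩ := tr3_scalar hz
  obtain ⟨b, hb⟩ := tr3_scalar (Subgroup.inv_mem _ hz)
  refine ⟨⟨a, ?_⟩, ⟨b, ?_⟩⟩
  · rw [ha, Matrix.smul_mulVec, Matrix.one_mulVec]
  · rw [hb, Matrix.smul_mulVec, Matrix.one_mulVec]

theorem center_le_normF (s : GL (Fin n) F) : Subgroup.center (GL (Fin n) F) ≤ normF s := by
  intro z hz
  have h1 : z * s * z⁻¹ = s := by
    rw [← Subgroup.mem_center_iff.mp hz s, mul_inv_cancel_right]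
  have h2 : z⁻¹ * s * z = s := by
    rw [mul_assoc, Subgroup.mem_center_iff.mp hz s, inv_mul_cancel_left]
  refine ⟨⟨0, 1, ?_⟩, ⟨0, 1, ?_⟩⟩
  · rw [h1]; simp
  · rw [h2]; simp

theorem mk_smul_mem (G : Subgroup (GL (Fin n) F ⧸ Subgroup.center (GL (Fin n) F)))
    (hG : ((Matrix.SpecialLinearGroup.toGL : Matrix.SpecialLinearGroup (Fin n) F →* GL (Fin n) F).range).map
      (QuotientGroup.mk' (Subgroup.center (GL (Fin n) F))) ≤ G)
    (s : GL (Fin n) F) (y : Matrix.SpecialLinearGroup (Fin n) F) (c : F)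
    (hs : (s : Matrix (Fin n) (Fin n) F) = c • (y : Matrix (Fin n) (Fin n) F)) :
    QuotientGroup.mk' (Subgroup.center (GL (Fin n) F)) s ∈ G := by
  have hcen : (Matrix.SpecialLinearGroup.toGL y)⁻¹ * s ∈ Subgroup.center (GL (Fin n) F) := by
    rw [Matrix.GeneralLinearGroup.mem_center_iff_val_mem_range_scalar]
    refine ⟨c, ?_⟩
    have h1 : (((Matrix.SpecialLinearGroup.toGL y)⁻¹ * Matrix.SpecialLinearGroup.toGL y :
        GL (Fin n) F) : Matrix (Fin n) (Fin n) F) = 1 := by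
      rw [inv_mul_cancel]; rfl
    rw [Units.val_mul] at h1
    have h2 : ((Matrix.SpecialLinearGroup.toGL y : GL (Fin n) F) : Matrix (Fin n) (Fin n) F)
        = (y : Matrix (Fin n) (Fin n) F) := rfl
    rw [h2] at h1
    rw [Units.val_mul, hs, Matrix.mul_smul, h1, Matrix.scalar_apply, Matrix.smul_one_eq_diagonal]
  have heq : QuotientGroup.mk' (Subgroup.center (GL (Fin n) F)) s
      = QuotientGroup.mk' (Subgroup.center (GL (Fin n) F)) (Matrix.SpecialLinearGroup.toGL y) := by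
    symm
    exact QuotientGroup.eq.mpr hcen
  rw [heq]
  exact hG ⟨_, ⟨y, rfl⟩, rfl⟩

end Cfsg.Agent.Lib.Helper7.NMC
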