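import Cfsg.Agent.Lib.Helper7.NMC.Defs
import Cfsg.Agent.Lib.Helper7.NMC.NIL
import Cfsg.Agent.Lib.Helper7.NMC.CLUB
import Cfsg.Agent.Lib.Helper7.NMC.TR1
import Cfsg.Agent.Lib.Helper7.NMC.TR2
import Cfsg.Agent.Lib.Helper7.NMC.TR3

set_option autoImplicit false

namespace Cfsg.Agent.Lib.Helper7.NMC

open Matrix

variable {n : ℕ} {F : Type*} [Field F]

/-- stabiliser of the line spanned by the row vector `φ`. -/
def ge3StabR (φ : Fin n → F) : Subgroup (GL (Fin n) F) where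
  carrier := {g | (∃ c : F, φ ᵥ* (g : Matrix (Fin n) (Fin n) F) = c • φ) ∧
    ∃ c : F, φ ᵥ* ((g⁻¹ : GL (Fin n) F) : Matrix (Fin n) (Fin n) F) = c • φ}
  mul_mem' := by
    rintro g h ⟨⟨c, hc⟩, ⟨c', hc'⟩⟩ ⟨⟨d, hd⟩, ⟨d', hd'⟩⟩
    refine ⟨⟨c * d, ?_⟩, ⟨d' * c', ?_⟩⟩
    · rw [Units.val_mul, ← Matrix.vecMul_vecMul, hc, Matrix.smul_vecMul, hd, smul_smul]
    · rw [_root_.mul_inv_rev, Units.val_mul, ← Matrix.vecMul_vecMul, hd', Matrix.smul_vecMul, hc',
        smul_smul]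
  one_mem' := ⟨⟨1, by simp⟩, ⟨1, by simp⟩⟩
  inv_mem' := by
    rintro g ⟨h1, h2⟩
    exact ⟨h2, by rwa [inv_inv]⟩

theorem ge3_mem_stabL (g : GL (Fin n) F) (w : Fin n → F) (d : F) (hd : d ≠ 0)
    (h : (g : Matrix (Fin n) (Fin n) F) *ᵥ w = d • w) : g ∈ stabL w := by
  refine ⟨⟨d, h⟩, ⟨d⁻¹, ?_⟩⟩
  have h1 : ((g⁻¹ : GL (Fin n) F) : Matrix (Fin n) (Fin n) F) *ᵥ
      ((g : Matrix (Fin n) (Fin n) F) *ᵥ w) = w := by
    rw [Matrix.mulVec_mulVec, ← Units.val_mul, inv_mul_cancel, Units.val_one, Matrix.one_mulVec]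
  rw [h, Matrix.mulVec_smul] at h1
  have h2 : ((g⁻¹ : GL (Fin n) F) : Matrix (Fin n) (Fin n) F) *ᵥ w
      = d⁻¹ • (d • (((g⁻¹ : GL (Fin n) F) : Matrix (Fin n) (Fin n) F) *ᵥ w)) := by
    rw [smul_smul, inv_mul_cancel₀ hd, one_smul]
  rw [h2, h1]

theorem ge3_mem_stabR (g : GL (Fin n) F) (w : Fin n → F) (d : F) (hd : d ≠ 0)
    (h : w ᵥ* (g : Matrix (Fin n) (Fin n) F) = d • w) : g ∈ ge3StabR w := by
  refine ⟨⟨d, h⟩, ⟨d⁻¹, ?_⟩⟩
  have h1 : (w ᵥ* (g : Matrix (Fin n) (Fin n) F)) ᵥ*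
      ((g⁻¹ : GL (Fin n) F) : Matrix (Fin n) (Fin n) F) = w := by
    rw [Matrix.vecMul_vecMul, ← Units.val_mul, mul_inv_cancel, Units.val_one, Matrix.vecMul_one]
  rw [h, Matrix.smul_vecMul] at h1
  have h2 : w ᵥ* ((g⁻¹ : GL (Fin n) F) : Matrix (Fin n) (Fin n) F)
      = d⁻¹ • (d • (w ᵥ* ((g⁻¹ : GL (Fin n) F) : Matrix (Fin n) (Fin n) F))) := by
    rw [smul_smul, inv_mul_cancel₀ hd, one_smul]
  rw [h2, h1]

theorem ge3_LH (J : GL (Fin n) F) (w : Fin n → F) (hw : w ≠ 0)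
    (huniq : ∀ v : Fin n → F, v ≠ 0 → ∀ c : F, (J : Matrix (Fin n) (Fin n) F) *ᵥ v = c • v →
      ∃ d : F, v = d • w)
    (a : GL (Fin n) F) (h : a * J * a⁻¹ ∈ stabL w) : a ∈ stabL w := by
  obtain ⟨⟨c, hc⟩, -⟩ := h
  have hu0 : ((a⁻¹ : GL (Fin n) F) : Matrix (Fin n) (Fin n) F) *ᵥ w ≠ 0 := by
    intro h0
    apply hw
    have h1 : (a : Matrix (Fin n) (Fin n) F) *ᵥ
        (((a⁻¹ : GL (Fin n) F) : Matrix (Fin n) (Fin n) F) *ᵥ w) = w := by
      rw [Matrix.mulVec_mulVec, ← Units.val_mul, mul_inv_cancel, Units.val_one, Matrix.one_mulVec]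
    rw [← h1, h0, Matrix.mulVec_zero]
  have hJu : (J : Matrix (Fin n) (Fin n) F) *ᵥ
      (((a⁻¹ : GL (Fin n) F) : Matrix (Fin n) (Fin n) F) *ᵥ w)
      = c • (((a⁻¹ : GL (Fin n) F) : Matrix (Fin n) (Fin n) F) *ᵥ w) := by
    have h1 := congrArg (fun z => ((a⁻¹ : GL (Fin n) F) : Matrix (Fin n) (Fin n) F) *ᵥ z) hc
    beta_reduce at h1
    have e : a⁻¹ * (a * J * a⁻¹) = J * a⁻¹ := by group
    rw [Matrix.mulVec_smul, Matrix.mulVec_mulVec, ← Units.val_mul, e, Units.val_mul,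
      ← Matrix.mulVec_mulVec] at h1
    exact h1
  obtain ⟨d, hd⟩ := huniq _ hu0 c hJu
  have hd0 : d ≠ 0 := by
    rintro rfl
    exact hu0 (by rw [hd, zero_smul])
  have h3 := ge3_mem_stabL a⁻¹ w d hd0 hd
  simpa using (stabL w).inv_mem h3

theorem ge3_RH (J : GL (Fin n) F) (w : Fin n → F) (hw : w ≠ 0)
    (huniq : ∀ v : Fin n → F, v ≠ 0 → ∀ c : F, v ᵥ* (J : Matrix (Fin n) (Fin n) F) = c • v →
      ∃ d : F, v = d • w)
    (a : GL (Fin n) F) (h : a * J * a⁻¹ ∈ ge3StabR w) : a ∈ ge3StabR w := by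
  obtain ⟨⟨c, hc⟩, -⟩ := h
  have hu0 : w ᵥ* (a : Matrix (Fin n) (Fin n) F) ≠ 0 := by
    intro h0
    apply hw
    have h1 : (w ᵥ* (a : Matrix (Fin n) (Fin n) F)) ᵥ*
        ((a⁻¹ : GL (Fin n) F) : Matrix (Fin n) (Fin n) F) = w := by
      rw [Matrix.vecMul_vecMul, ← Units.val_mul, mul_inv_cancel, Units.val_one, Matrix.vecMul_one]
    rw [← h1, h0, Matrix.zero_vecMul]
  have hJu : (w ᵥ* (a : Matrix (Fin n) (Fin n) F)) ᵥ* (J : Matrix (Fin n) (Fin n) F)
      = c • (w ᵥ* (a : Matrix (Fin n) (Fin n) F)) := by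
    have h1 := congrArg (fun z => z ᵥ* (a : Matrix (Fin n) (Fin n) F)) hc
    beta_reduce at h1
    have e : (a * J * a⁻¹) * a = a * J := by group
    rw [Matrix.smul_vecMul, Matrix.vecMul_vecMul, ← Units.val_mul, e, Units.val_mul,
      ← Matrix.vecMul_vecMul] at h1
    exact h1
  obtain ⟨d, hd⟩ := huniq _ hu0 c hJu
  have hd0 : d ≠ 0 := by
    rintro rfl
    exact hu0 (by rw [hd, zero_smul])
  exact ge3_mem_stabR a w d hd0 hd

/-- the upper Jordan block. -/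
def ge3J (k : ℕ) (F : Type*) [Field F] : Matrix (Fin (k + 1)) (Fin (k + 1)) F :=
  fun i j => if i = j then 1 else if (i : ℕ) + 1 = j then 1 else 0

theorem ge3J_det (k : ℕ) : (ge3J k F).det = 1 := by
  rw [Matrix.det_of_isUpperTriangular]
  · simp [ge3J]
  · intro i j hij
    simp only [id] at hij
    have h1 : i ≠ j := ne_of_gt hij
    have h2 : ¬ ((i : ℕ) + 1 = j) := by
      have := Fin.lt_def.mp hij
      omega
    simp [ge3J, h1, h2]

theorem ge3J_mulVec_castSucc (k : ℕ) (v : Fin (k + 1) → F) (i : Fin k) :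
    (ge3J k F *ᵥ v) i.castSucc = v i.castSucc + v i.succ := by
  have hne : i.castSucc ≠ i.succ := (Fin.castSucc_lt_succ).ne
  simp only [Matrix.mulVec, dotProduct]
  rw [Finset.sum_eq_add i.castSucc i.succ hne]
  · simp [ge3J, hne]
  · rintro j _ ⟨h1, h2⟩
    have h3 : ¬ ((i.castSucc : ℕ) + 1 = j) := by
      intro h
      apply h2
      apply Fin.ext
      simp only [Fin.val_succ]
      simpa using h.symm
    unfold ge3J
    rw [if_neg h1.symm, if_neg h3, zero_mul]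
  · intro h
    exact absurd (Finset.mem_univ _) h
  · intro h
    exact absurd (Finset.mem_univ _) h

theorem ge3J_mulVec_last (k : ℕ) (v : Fin (k + 1) → F) :
    (ge3J k F *ᵥ v) (Fin.last k) = v (Fin.last k) := by
  simp only [Matrix.mulVec, dotProduct]
  rw [Finset.sum_eq_single (Fin.last k)]
  · simp [ge3J]
  · intro j _ hj
    have h2 : ¬ ((Fin.last k : ℕ) + 1 = j) := by
      have := j.2
      simp only [Fin.val_last]
      omega
    unfold ge3J
    rw [if_neg hj.symm, if_neg h2, zero_mul]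
  · intro h
    exact absurd (Finset.mem_univ _) h

theorem ge3J_vecMul_succ (k : ℕ) (v : Fin (k + 1) → F) (j : Fin k) :
    (v ᵥ* ge3J k F) j.succ = v j.succ + v j.castSucc := by
  have hne : j.succ ≠ j.castSucc := (Fin.castSucc_lt_succ).ne'
  simp only [Matrix.vecMul, dotProduct]
  rw [Finset.sum_eq_add j.succ j.castSucc hne]
  · simp [ge3J, hne.symm]
  · rintro i _ ⟨h1, h2⟩
    have h3 : ¬ ((i : ℕ) + 1 = j.succ) := by
      intro h
      apply h2
      apply Fin.ext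
      simp only [Fin.val_succ] at h
      simp only [Fin.val_castSucc]
      omega
    unfold ge3J
    rw [if_neg h1, if_neg h3, mul_zero]
  · intro h
    exact absurd (Finset.mem_univ _) h
  · intro h
    exact absurd (Finset.mem_univ _) h

theorem ge3J_vecMul_zero (k : ℕ) (v : Fin (k + 1) → F) :
    (v ᵥ* ge3J k F) 0 = v 0 := by
  simp only [Matrix.vecMul, dotProduct]
  rw [Finset.sum_eq_single 0]
  · simp [ge3J]
  · intro i _ hi
    simp [ge3J, hi]
  · intro h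
    exact absurd (Finset.mem_univ _) h

theorem ge3J_eigR (k : ℕ) (v : Fin (k + 1) → F) (hv : v ≠ 0) (c : F)
    (h : ge3J k F *ᵥ v = c • v) : ∃ d : F, v = d • Pi.single 0 1 := by
  by_cases hc : c = 1
  · subst hc
    refine ⟨v 0, ?_⟩
    funext i
    refine Fin.cases ?_ (fun i => ?_) i
    · simp
    · have h1 := congrFun h i.castSucc
      rw [ge3J_mulVec_castSucc, one_smul] at h1
      have h2 : v i.succ = 0 := by linear_combination h1
      simp [h2, Fin.succ_ne_zero]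
  · exfalso
    apply hv
    funext i
    refine Fin.reverseInduction ?_ (fun i ih => ?_) i
    · have h1 := congrFun h (Fin.last k)
      rw [ge3J_mulVec_last, Pi.smul_apply, smul_eq_mul] at h1
      have h2 : (1 - c) * v (Fin.last k) = 0 := by linear_combination h1
      exact (mul_eq_zero.mp h2).resolve_left (sub_ne_zero.mpr (Ne.symm hc))
    · have h1 := congrFun h i.castSucc
      rw [ge3J_mulVec_castSucc, Pi.smul_apply, smul_eq_mul, ih] at h1
      simp only [Pi.zero_apply, add_zero] at h1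
      have h2 : (1 - c) * v i.castSucc = 0 := by linear_combination h1
      exact (mul_eq_zero.mp h2).resolve_left (sub_ne_zero.mpr (Ne.symm hc))

theorem ge3J_eigL (k : ℕ) (v : Fin (k + 1) → F) (hv : v ≠ 0) (c : F)
    (h : v ᵥ* ge3J k F = c • v) : ∃ d : F, v = d • Pi.single (Fin.last k) 1 := by
  by_cases hc : c = 1
  · subst hc
    refine ⟨v (Fin.last k), ?_⟩
    funext i
    refine Fin.lastCases ?_ (fun i => ?_) i
    · simp
    · have h1 := congrFun h i.succ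
      rw [ge3J_vecMul_succ, one_smul] at h1
      have h2 : v i.castSucc = 0 := by linear_combination h1
      simp [h2, (Fin.castSucc_lt_last i).ne]
  · exfalso
    apply hv
    funext i
    refine Fin.induction ?_ (fun i ih => ?_) i
    · have h1 := congrFun h 0
      rw [ge3J_vecMul_zero, Pi.smul_apply, smul_eq_mul] at h1
      have h2 : (1 - c) * v 0 = 0 := by linear_combination h1
      exact (mul_eq_zero.mp h2).resolve_left (sub_ne_zero.mpr (Ne.symm hc))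
    · have h1 := congrFun h i.succ
      rw [ge3J_vecMul_succ, Pi.smul_apply, smul_eq_mul, ih] at h1
      simp only [Pi.zero_apply, add_zero] at h1
      have h2 : (1 - c) * v i.succ = 0 := by linear_combination h1
      exact (mul_eq_zero.mp h2).resolve_left (sub_ne_zero.mpr (Ne.symm hc))

/-- GE3. -/
theorem ge_three [Fintype F] (hn : 3 ≤ n)
    (G : Subgroup (GL (Fin n) F ⧸ Subgroup.center (GL (Fin n) F)))
    (hG : ((Matrix.SpecialLinearGroup.toGL : Matrix.SpecialLinearGroup (Fin n) F →* GL (Fin n) F).range).map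
      (QuotientGroup.mk' (Subgroup.center (GL (Fin n) F))) ≤ G)
    (𝓐 : Finset (Subgroup ↥G)) (hc : IsCov 𝓐)
    (hmin : ∀ 𝓑 : Finset (Subgroup ↥G), IsCov 𝓑 → 𝓐.card ≤ 𝓑.card)
    (hnil : ∀ A ∈ 𝓐, Group.IsNilpotent ↥A) : False := by
  obtain ⟨k, rfl⟩ : ∃ k, n = k + 1 := ⟨n - 1, by omega⟩
  have hk : 2 ≤ k := by omega
  have hSL : ∀ y : Matrix.SpecialLinearGroup (Fin (k + 1)) F,
      QuotientGroup.mk' (Subgroup.center (GL (Fin (k + 1)) F)) (Matrix.SpecialLinearGroup.toGL y) ∈ G :=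
    fun y => hG ⟨Matrix.SpecialLinearGroup.toGL y, ⟨y, rfl⟩, rfl⟩
  -- indices
  obtain ⟨i1, hi1⟩ : ∃ i1 : Fin (k + 1), (i1 : ℕ) = 1 := ⟨⟨1, by omega⟩, rfl⟩
  have hi10 : i1 ≠ 0 := by
    intro h
    rw [h] at hi1
    simp at hi1
  have hi1l : i1 ≠ Fin.last k := by
    intro h
    rw [h] at hi1
    simp only [Fin.val_last] at hi1
    omega
  -- the elements
  let JS : Matrix.SpecialLinearGroup (Fin (k + 1)) F := ⟨ge3J k F, ge3J_det k⟩
  let hS : Matrix.SpecialLinearGroup (Fin (k + 1)) F :=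
    ⟨Matrix.transvection (Fin.last k) i1 1, Matrix.det_transvection_of_ne _ _ hi1l.symm 1⟩
  let yS : Matrix.SpecialLinearGroup (Fin (k + 1)) F :=
    ⟨Matrix.transvection i1 0 1, Matrix.det_transvection_of_ne _ _ hi10 1⟩
  have hJm : ((Matrix.SpecialLinearGroup.toGL JS : GL (Fin (k + 1)) F) :
      Matrix (Fin (k + 1)) (Fin (k + 1)) F) = ge3J k F := rfl
  have hhm : ((Matrix.SpecialLinearGroup.toGL hS : GL (Fin (k + 1)) F) :
      Matrix (Fin (k + 1)) (Fin (k + 1)) F) = Matrix.transvection (Fin.last k) i1 1 := rfl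
  have hym : ((Matrix.SpecialLinearGroup.toGL yS : GL (Fin (k + 1)) F) :
      Matrix (Fin (k + 1)) (Fin (k + 1)) F) = Matrix.transvection i1 0 1 := rfl
  have he0 : (Pi.single 0 1 : Fin (k + 1) → F) ≠ 0 := by
    intro h
    have := congrFun h 0
    simp at this
  have hel : (Pi.single (Fin.last k) 1 : Fin (k + 1) → F) ≠ 0 := by
    intro h
    have := congrFun h (Fin.last k)
    simp at this
  have huL : ∀ v : Fin (k + 1) → F, v ≠ 0 → ∀ c : F,
      ((Matrix.SpecialLinearGroup.toGL JS : GL (Fin (k + 1)) F) :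
        Matrix (Fin (k + 1)) (Fin (k + 1)) F) *ᵥ v = c • v → ∃ d : F, v = d • Pi.single 0 1 := by
    intro v hv c h
    rw [hJm] at h
    exact ge3J_eigR k v hv c h
  have huR : ∀ v : Fin (k + 1) → F, v ≠ 0 → ∀ c : F,
      v ᵥ* ((Matrix.SpecialLinearGroup.toGL JS : GL (Fin (k + 1)) F) :
        Matrix (Fin (k + 1)) (Fin (k + 1)) F) = c • v → ∃ d : F, v = d • Pi.single (Fin.last k) 1 := by
    intro v hv c h
    rw [hJm] at h
    exact ge3J_eigL k v hv c h
  -- f1 : J ∈ stabL e₀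
  have f1 : Matrix.SpecialLinearGroup.toGL JS ∈ stabL (Pi.single 0 1 : Fin (k + 1) → F) := by
    apply ge3_mem_stabL _ _ 1 one_ne_zero
    rw [hJm, one_smul, Matrix.mulVec_single_one]
    funext i
    by_cases hi : i = 0
    · subst hi
      simp [ge3J]
    · simp [ge3J, hi]
  -- f2 : h ∈ stabL e₀
  have f2 : Matrix.SpecialLinearGroup.toGL hS ∈ stabL (Pi.single 0 1 : Fin (k + 1) → F) := by
    apply ge3_mem_stabL _ _ 1 one_ne_zero
    rw [hhm, one_smul, Matrix.mulVec_single_one]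
    funext i
    simp [Matrix.transvection, Matrix.single_apply, hi10, Matrix.one_apply, Pi.single_apply]
  -- f3 : J ∈ stabR e_last
  have f3 : Matrix.SpecialLinearGroup.toGL JS ∈ ge3StabR (Pi.single (Fin.last k) 1 : Fin (k + 1) → F) := by
    apply ge3_mem_stabR _ _ 1 one_ne_zero
    rw [hJm, one_smul, Matrix.single_one_vecMul]
    funext j
    by_cases hj : j = Fin.last k
    · subst hj
      simp [ge3J]
    · have h2 : ¬ ((Fin.last k : ℕ) + 1 = j) := by
        have := j.2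
        simp only [Fin.val_last]
        omega
      simp only [Matrix.row_apply, Pi.single_apply, if_neg hj]
      unfold ge3J
      rw [if_neg (Ne.symm hj), if_neg h2]
  -- f4 : h ∉ stabR e_last
  have f4 : Matrix.SpecialLinearGroup.toGL hS ∉ ge3StabR (Pi.single (Fin.last k) 1 : Fin (k + 1) → F) := by
    rintro ⟨⟨c, hc'⟩, -⟩
    rw [hhm, Matrix.single_one_vecMul] at hc'
    have := congrFun hc' i1
    simp [Matrix.transvection, Matrix.single_apply, Matrix.one_apply, Pi.single_apply, hi1l,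
      hi1l.symm] at this
  -- f5 : y ∉ stabL e₀
  have f5 : Matrix.SpecialLinearGroup.toGL yS ∉ stabL (Pi.single 0 1 : Fin (k + 1) → F) := by
    rintro ⟨⟨c, hc'⟩, -⟩
    rw [hym, Matrix.mulVec_single_one] at hc'
    have := congrFun hc' i1
    simp [Matrix.transvection, Matrix.single_apply, Matrix.one_apply, Pi.single_apply, hi10] at this
  have hJ'eq : Matrix.SpecialLinearGroup.toGL (hS * JS * hS⁻¹)
      = Matrix.SpecialLinearGroup.toGL hS * Matrix.SpecialLinearGroup.toGL JS *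
        (Matrix.SpecialLinearGroup.toGL hS)⁻¹ := by
    rw [map_mul, map_mul, map_inv]
  obtain ⟨A₁, hA₁, hJ₁⟩ := hc.2 ⟨_, hSL JS⟩
  obtain ⟨A₂, hA₂, hJ₂⟩ := hc.2 ⟨_, hSL (hS * JS * hS⁻¹)⟩
  have hJ₁' : Matrix.SpecialLinearGroup.toGL JS ∈ hat G A₁ := (mem_hat G A₁ _ (hSL JS)).mpr hJ₁
  have hJ₂' : Matrix.SpecialLinearGroup.toGL (hS * JS * hS⁻¹) ∈ hat G A₂ :=
    (mem_hat G A₂ _ (hSL _)).mpr hJ₂
  have hle₁ : hat G A₁ ≤ stabL (Pi.single 0 1 : Fin (k + 1) → F) :=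
    nil_le _ _ (hat_nilpotent G A₁ (hnil A₁ hA₁)) _ hJ₁' f1
      (fun a _ h => ge3_LH _ _ he0 huL a h)
  have hle₂ : hat G A₂ ≤ stabL (Pi.single 0 1 : Fin (k + 1) → F) := by
    refine nil_le _ _ (hat_nilpotent G A₂ (hnil A₂ hA₂)) _ hJ₂' ?_ ?_
    · rw [hJ'eq]
      exact (stabL _).mul_mem ((stabL _).mul_mem f2 f1) ((stabL _).inv_mem f2)
    · intro a _ h
      rw [hJ'eq] at h
      have e : a * (Matrix.SpecialLinearGroup.toGL hS * Matrix.SpecialLinearGroup.toGL JS *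
          (Matrix.SpecialLinearGroup.toGL hS)⁻¹) * a⁻¹
          = (a * Matrix.SpecialLinearGroup.toGL hS) * Matrix.SpecialLinearGroup.toGL JS *
            (a * Matrix.SpecialLinearGroup.toGL hS)⁻¹ := by group
      rw [e] at h
      have h1 := ge3_LH _ _ he0 huL _ h
      have h2 := (stabL _).mul_mem h1 ((stabL _).inv_mem f2)
      simpa using h2
  have hne : A₁ ≠ A₂ := by
    rintro rfl
    have hR : hat G A₁ ≤ ge3StabR (Pi.single (Fin.last k) 1 : Fin (k + 1) → F) :=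
      nil_le _ _ (hat_nilpotent G A₁ (hnil A₁ hA₁)) _ hJ₁' f3
        (fun a _ h => ge3_RH _ _ hel huR a h)
    have h1 := hR hJ₂'
    rw [hJ'eq] at h1
    exact f4 (ge3_RH _ _ hel huR _ h1)
  refine club 𝓐 hc hmin (low G (stabL (Pi.single 0 1 : Fin (k + 1) → F))) A₁ A₂ ?_ hA₁ hA₂ hne
    (le_low G A₁ _ hle₁) (le_low G A₂ _ hle₂)
  intro htop
  have h1 : (⟨_, hSL yS⟩ : ↥G) ∈ low G (stabL (Pi.single 0 1 : Fin (k + 1) → F)) := by
    rw [htop]
    trivial
  exact f5 ((mem_low G _ (center_le_stabL _) _ _).mp h1)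

end Cfsg.Agent.Lib.Helper7.NMC
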