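import Cfsg.Agent.Lib.Helper7.NMC.NF1
import Cfsg.Agent.Lib.Helper7.NMC.NF2
import Cfsg.Agent.Lib.Helper7.NMC.NF3

set_option autoImplicit false

namespace Cfsg.Agent.Lib.Helper7.NMC

open Matrix

variable {n : ℕ} {F : Type*} [Field F]

/-- NF5 (uses NF1 NF2 NF3). -/
theorem normF_eq_of_mem (s s' : GL (Fin 2) F) (hs : IrrM s) (hs2' : ¬ IsSc (s' ^ 2))
    (h : s' ∈ normF s) : normF s' = normF s := by
  rcases normF_cases s s' hs h with ⟨a, b, hab⟩ | hsw
  · have hb : b ≠ 0 := by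
      intro h0
      apply hs2'
      refine ⟨a * a, ?_⟩
      rw [sq, Units.val_mul, hab, h0, zero_smul, add_zero, Matrix.smul_mul, Matrix.one_mul, smul_smul]
    exact normF_eq_of_lin s s' a b hb hab
  · exact absurd (sq_scalar_of_swap s s' hs hsw) hs2'

end Cfsg.Agent.Lib.Helper7.NMC
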