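import Cfsg.Agent.Lib.Helper7.NMC.Defs

set_option autoImplicit false

namespace Cfsg.Agent.Lib.Helper7.NMC

open Matrix

variable {n : ℕ} {F : Type*} [Field F]

/-- PRL.  the other transvection: uv w with w not parallel to v. -/
theorem stabL_proper (v : Fin 2 → F) (hv : v ≠ 0) :
    ∃ y : Matrix.SpecialLinearGroup (Fin 2) F, Matrix.SpecialLinearGroup.toGL y ∉ stabL v := by
  by_cases h1 : v 1 = 0
  · have h0 : v 0 ≠ 0 := by
      intro h0
      apply hv
      funext i
      fin_cases i
      · exact h0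
      · exact h1
    refine ⟨⟨!![1, 0; 1, 1], by rw [Matrix.det_fin_two_of]; ring⟩, ?_⟩
    rintro ⟨⟨c, hc⟩, -⟩
    change (!![1, 0; 1, 1] : Matrix (Fin 2) (Fin 2) F) *ᵥ v = c • v at hc
    have e0 := congrFun hc 0
    have e1 := congrFun hc 1
    simp [Matrix.mulVec, dotProduct, Fin.sum_univ_two, h1] at e0 e1
    exact h0 e1
  · refine ⟨⟨!![1, 1; 0, 1], by rw [Matrix.det_fin_two_of]; ring⟩, ?_⟩
    rintro ⟨⟨c, hc⟩, -⟩
    change (!![1, 1; 0, 1] : Matrix (Fin 2) (Fin 2) F) *ᵥ v = c • v at hc
    have e0 := congrFun hc 0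
    have e1 := congrFun hc 1
    simp only [Matrix.mulVec, dotProduct, Fin.sum_univ_two, Pi.smul_apply, smul_eq_mul] at e0 e1
    simp at e0 e1
    have hc1 : c = 1 := by
      have : (c - 1) * v 1 = 0 := by linear_combination -e1
      rcases mul_eq_zero.1 this with h | h
      · linear_combination h
      · exact absurd h h1
    rw [hc1] at e0
    apply h1
    linear_combination e0

end Cfsg.Agent.Lib.Helper7.NMC
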