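import Cfsg.Agent.Lib.Helper7.NMC.Defs

set_option autoImplicit false

namespace Cfsg.Agent.Lib.Helper7.NMC

open Matrix

variable {n : ℕ} {F : Type*} [Field F]

theorem unit_gen [Fintype F] : ∃ g : Fˣ, orderOf g = Fintype.card F - 1 := by
  classical
  obtain ⟨g, hg⟩ := IsCyclic.exists_generator (α := Fˣ)
  refine ⟨g, ?_⟩
  rw [orderOf_eq_card_of_forall_mem_zpowers hg, Nat.card_eq_fintype_card, Fintype.card_units]

/-- UNIT.  Fˣ is cyclic of order q - 1 ∤ 4 for q ≥ 4, q ≠ 5: a generator works. -/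
theorem exists_unit [Fintype F] (hq : 4 ≤ Fintype.card F) (h5 : Fintype.card F ≠ 5) :
    ∃ l : Fˣ, l ^ 4 ≠ 1 := by
  obtain ⟨g, ho⟩ := unit_gen (F := F)
  refine ⟨g, fun h => ?_⟩
  have hd : orderOf g ∣ 4 := orderOf_dvd_of_pow_eq_one h
  rw [ho] at hd
  have hle := Nat.le_of_dvd (by norm_num) hd
  have h34 : Fintype.card F - 1 = 3 ∨ Fintype.card F - 1 = 4 := by omega
  rcases h34 with h3 | h4
  · rw [h3] at hd; norm_num at hd
  · omega

/-- UNIT. -/
theorem exists_unit_five [Fintype F] (hq : 4 ≤ Fintype.card F) : ∃ l : Fˣ, l ^ 2 ≠ 1 := by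
  obtain ⟨g, ho⟩ := unit_gen (F := F)
  refine ⟨g, fun h => ?_⟩
  have hd : orderOf g ∣ 2 := orderOf_dvd_of_pow_eq_one h
  rw [ho] at hd
  have hle := Nat.le_of_dvd (by norm_num) hd
  omega

end Cfsg.Agent.Lib.Helper7.NMC
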