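import Cfsg.Agent.Lib.Helper7.NMC.NIL
import Cfsg.Agent.Lib.Helper7.NMC.EXC
import Cfsg.Agent.Lib.Helper7.NMC.TR1
import Cfsg.Agent.Lib.Helper7.NMC.TR2
import Cfsg.Agent.Lib.Helper7.NMC.TR3
import Cfsg.Agent.Lib.Helper7.NMC.UV1
import Cfsg.Agent.Lib.Helper7.NMC.UV2
import Cfsg.Agent.Lib.Helper7.NMC.NF4
import Cfsg.Agent.Lib.Helper7.NMC.NF5
import Cfsg.Agent.Lib.Helper7.NMC.WIT
import Cfsg.Agent.Lib.Helper7.NMC.PRL
import Cfsg.Agent.Lib.Helper7.NMC.PRNF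
import Cfsg.Agent.Lib.Helper7.NMC.DG1
import Cfsg.Agent.Lib.Helper7.NMC.DG2
import Cfsg.Agent.Lib.Helper7.NMC.UNIT
import Cfsg.Agent.Lib.Helper7.NMC.FIVE2
import Cfsg.Agent.Lib.Helper7.NMC.GE3

set_option autoImplicit false

namespace Cfsg.Agent.Lib.Helper7.NMC

open Matrix

variable {n : ℕ} {F : Type*} [Field F]

theorem mem_stabL_of_eigen (g : GL (Fin n) F) (v : Fin n → F) (hv : v ≠ 0) (c : F)
    (h : (g : Matrix (Fin n) (Fin n) F) *ᵥ v = c • v) : g ∈ stabL v := by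
  refine ⟨⟨c, h⟩, ⟨c⁻¹, ?_⟩⟩
  have h1 : ((g⁻¹ : GL (Fin n) F) : Matrix (Fin n) (Fin n) F) *ᵥ
      ((g : Matrix (Fin n) (Fin n) F) *ᵥ v) = v := by
    rw [Matrix.mulVec_mulVec, ← Units.val_mul, inv_mul_cancel, Units.val_one, Matrix.one_mulVec]
  have hc : c ≠ 0 := by
    rintro rfl
    rw [zero_smul] at h
    rw [h, Matrix.mulVec_zero] at h1
    exact hv h1.symm
  rw [h, Matrix.mulVec_smul] at h1
  calc ((g⁻¹ : GL (Fin n) F) : Matrix (Fin n) (Fin n) F) *ᵥ v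
      = c⁻¹ • (c • (((g⁻¹ : GL (Fin n) F) : Matrix (Fin n) (Fin n) F) *ᵥ v)) := by
        rw [smul_smul, inv_mul_cancel₀ hc, one_smul]
    _ = c⁻¹ • v := by rw [h1]

theorem self_mem_normF (s : GL (Fin n) F) : s ∈ normF s := by
  refine ⟨⟨0, 1, ?_⟩, ⟨0, 1, ?_⟩⟩
  · rw [mul_inv_cancel_right]; simp
  · rw [inv_mul_cancel, one_mul]; simp

theorem not_mem_stabL_of_irr (s : GL (Fin n) F) (hs : IrrM s) (v : Fin n → F) (hv : v ≠ 0) :
    s ∉ stabL v := by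
  rintro ⟨⟨c, hc⟩, -⟩
  exact hs v hv c hc

theorem eq_two [Fintype F] (hq : 4 ≤ Fintype.card F)
    (G : Subgroup (GL (Fin 2) F ⧸ Subgroup.center (GL (Fin 2) F)))
    (hG : ((Matrix.SpecialLinearGroup.toGL : Matrix.SpecialLinearGroup (Fin 2) F →* GL (Fin 2) F).range).map
      (QuotientGroup.mk' (Subgroup.center (GL (Fin 2) F))) ≤ G)
    (𝓐 : Finset (Subgroup ↥G)) (hc : IsCov 𝓐)
    (hmin : ∀ 𝓑 : Finset (Subgroup ↥G), IsCov 𝓑 → 𝓐.card ≤ 𝓑.card)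
    (hnil : ∀ A ∈ 𝓐, Group.IsNilpotent ↥A) : False := by
  classical
  have hSL : ∀ y : Matrix.SpecialLinearGroup (Fin 2) F,
      QuotientGroup.mk' (Subgroup.center (GL (Fin 2) F)) (Matrix.SpecialLinearGroup.toGL y) ∈ G :=
    fun y => hG ⟨Matrix.SpecialLinearGroup.toGL y, ⟨y, rfl⟩, rfl⟩
  let I₁ := {v : Fin 2 → F // v ≠ 0}
  let I₂ := {s : GL (Fin 2) F // QuotientGroup.mk' (Subgroup.center (GL (Fin 2) F)) s ∈ G ∧
    IrrM s ∧ ¬ IsSc (s ^ 2)}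
  let Mof : I₁ ⊕ I₂ → Subgroup ↥G :=
    Sum.elim (fun v => low G (stabL v.1)) (fun s => low G (normF s.1))
  let wof : I₁ ⊕ I₂ → ↥G :=
    Sum.elim (fun v => ⟨_, hSL (uv v.1)⟩) (fun s => ⟨_, s.2.1⟩)
  obtain ⟨l, hl2, hl4⟩ : ∃ l : Fˣ, l ^ 2 ≠ 1 ∧ (Fintype.card F ≠ 5 → l ^ 4 ≠ 1) := by
    by_cases h5 : Fintype.card F = 5
    · obtain ⟨l, hl⟩ := exists_unit_five hq
      exact ⟨l, hl, fun h => absurd h5 h⟩
    · obtain ⟨l, hl⟩ := exists_unit hq h5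
      refine ⟨l, ?_, fun _ => hl⟩
      intro h
      apply hl
      have : l ^ 4 = (l ^ 2) ^ 2 := by rw [← pow_mul]
      rw [this, h, one_pow]
  have key1 : ∀ (v : I₁), ∀ A ∈ 𝓐, (⟨_, hSL (uv v.1)⟩ : ↥G) ∈ A → hat G A ≤ stabL v.1 := by
    intro v A hA hw
    exact nil_le (hat G A) (stabL v.1) (hat_nilpotent G A (hnil A hA)) _
      ((mem_hat G A _ (hSL (uv v.1))).2 hw) (uv_mem v.1) (fun a _ h => uv_H v.1 v.2 a h)
  have key2 : ∀ (s : I₂), ∀ A ∈ 𝓐, (⟨_, s.2.1⟩ : ↥G) ∈ A → hat G A ≤ normF s.1 := by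
    intro s A hA hw
    exact nil_le (hat G A) (normF s.1) (hat_nilpotent G A (hnil A hA)) _
      ((mem_hat G A _ s.2.1).2 hw) (self_mem_normF s.1)
      (fun a _ h => normF_H s.1 a s.2.2.1 s.2.2.2 h)
  refine exc 𝓐 hc hmin Mof wof ?_ ?_ ?_ ?_ ⟨_, hSL (dg l)⟩ ?_
  · rintro (v | s) htop
    · obtain ⟨y, hy⟩ := stabL_proper v.1 v.2
      apply hy
      rw [← mem_low G (stabL v.1) (center_le_stabL v.1) _ (hSL y)]
      have : low G (stabL v.1) = ⊤ := htop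
      rw [this]
      trivial
    · obtain ⟨y, hy⟩ := normF_proper hq s.1 s.2.2.1
      apply hy
      rw [← mem_low G (normF s.1) (center_le_normF s.1) _ (hSL y)]
      have : low G (normF s.1) = ⊤ := htop
      rw [this]
      trivial
  · rintro ⟨x, hx⟩
    obtain ⟨g, rfl⟩ := QuotientGroup.mk'_surjective (Subgroup.center (GL (Fin 2) F)) x
    by_cases hg : IrrM g
    · obtain ⟨s, hs, hsi, hs2, hgs⟩ := exists_witness hq g hg
      have hsG : QuotientGroup.mk' (Subgroup.center (GL (Fin 2) F)) s ∈ G := by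
        rcases hs with rfl | ⟨y, c, hyc⟩
        · exact hx
        · exact mk_smul_mem G hG s y c hyc
      refine ⟨Sum.inr ⟨s, hsG, hsi, hs2⟩, ?_⟩
      exact (mem_low G (normF s) (center_le_normF s) g hx).2 hgs
    · unfold IrrM at hg
      push Not at hg
      obtain ⟨v, hv, c, hcv⟩ := hg
      refine ⟨Sum.inl ⟨v, hv⟩, ?_⟩
      exact (mem_low G (stabL v) (center_le_stabL v) g hx).2 (mem_stabL_of_eigen g v hv c hcv)
  · rintro (v | s) A hA hw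
    · exact le_low G A _ (key1 v A hA hw)
    · exact le_low G A _ (key2 s A hA hw)
  · rintro (v | s) (v' | s') h1 h2
    · have h3 := (mem_low G (stabL v'.1) (center_le_stabL v'.1) _ (hSL (uv v.1))).1 h1
      show low G (stabL v.1) = low G (stabL v'.1)
      rw [stabL_eq_of_uv_mem v.1 v'.1 v.2 v'.2 h3]
    · exfalso
      have h3 := (mem_low G (stabL v.1) (center_le_stabL v.1) _ s'.2.1).1 h2
      exact not_mem_stabL_of_irr s'.1 s'.2.2.1 v.1 v.2 h3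
    · exfalso
      have h3 := (mem_low G (stabL v'.1) (center_le_stabL v'.1) _ s.2.1).1 h1
      exact not_mem_stabL_of_irr s.1 s.2.2.1 v'.1 v'.2 h3
    · have h3 := (mem_low G (normF s'.1) (center_le_normF s'.1) _ s.2.1).1 h1
      show low G (normF s.1) = low G (normF s'.1)
      rw [normF_eq_of_mem s'.1 s.1 s'.2.2.1 s.2.2.2 h3]
  · rintro (v | s) A hA hw ht
    · have h1 := (mem_hat G A _ (hSL (uv v.1))).2 hw
      have h2 := (mem_hat G A _ (hSL (dg l))).2 ht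
      exact dg_uv_not_nilpotent l hl2 v.1 v.2 (hat G A) (hat_nilpotent G A (hnil A hA)) h1 h2
    · have h1 := (mem_hat G A _ s.2.1).2 hw
      have h2 := (mem_hat G A _ (hSL (dg l))).2 ht
      by_cases h5 : Fintype.card F = 5
      · exact five_not_nilpotent h5 l hl2 s.1 s.2.2.1 s.2.2.2 (hat G A)
          (hat_nilpotent G A (hnil A hA)) h1 h2
      · exact dg_not_mem_normF l (hl4 h5) s.1 s.2.2.1 (key2 s A hA hw h2)

end Cfsg.Agent.Lib.Helper7.NMC
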