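import Mathlib

set_option autoImplicit false

/-! Ladder NMC (statement S3894): definitions. -/

namespace Cfsg.Agent.Lib.Helper7.NMC

open Matrix

variable {n : ℕ} {F : Type*} [Field F]

/-- a cover of `X` by proper subgroups -/
def IsCov {X : Type*} [Group X] (𝓐 : Finset (Subgroup X)) : Prop :=
  (∀ A ∈ 𝓐, A ≠ ⊤) ∧ ∀ g : X, ∃ A ∈ 𝓐, g ∈ A

/-- full preimage in `GL_n` of a subgroup of `G ≤ PGL_n` -/
def hat (G : Subgroup (GL (Fin n) F ⧸ Subgroup.center (GL (Fin n) F))) (A : Subgroup ↥G) :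
    Subgroup (GL (Fin n) F) :=
  (A.map G.subtype).comap (QuotientGroup.mk' (Subgroup.center (GL (Fin n) F)))

/-- the subgroup of `G ≤ PGL_n` induced by a subgroup of `GL_n` -/
def low (G : Subgroup (GL (Fin n) F ⧸ Subgroup.center (GL (Fin n) F)))
    (M : Subgroup (GL (Fin n) F)) : Subgroup ↥G :=
  (M.map (QuotientGroup.mk' (Subgroup.center (GL (Fin n) F)))).subgroupOf G

/-- stabiliser of the line spanned by `v` -/
def stabL (v : Fin n → F) : Subgroup (GL (Fin n) F) where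
  carrier := {g | (∃ c : F, (g : Matrix (Fin n) (Fin n) F) *ᵥ v = c • v) ∧
    ∃ c : F, ((g⁻¹ : GL (Fin n) F) : Matrix (Fin n) (Fin n) F) *ᵥ v = c • v}
  mul_mem' := by
    rintro g h ⟨⟨c, hc⟩, ⟨c', hc'⟩⟩ ⟨⟨d, hd⟩, ⟨d', hd'⟩⟩
    refine ⟨⟨d * c, ?_⟩, ⟨c' * d', ?_⟩⟩
    · rw [Units.val_mul, ← Matrix.mulVec_mulVec, hd, Matrix.mulVec_smul, hc, smul_smul]
    · rw [_root_.mul_inv_rev, Units.val_mul, ← Matrix.mulVec_mulVec, hc', Matrix.mulVec_smul, hd',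
        smul_smul]
  one_mem' := ⟨⟨1, by simp⟩, ⟨1, by simp⟩⟩
  inv_mem' := by
    rintro g ⟨h1, h2⟩
    exact ⟨h2, by rwa [inv_inv]⟩

/-- `g` has no invariant line -/
def IrrM (s : GL (Fin n) F) : Prop :=
  ∀ v : Fin n → F, v ≠ 0 → ∀ c : F, (s : Matrix (Fin n) (Fin n) F) *ᵥ v ≠ c • v

/-- scalar matrices -/
def IsSc (g : GL (Fin n) F) : Prop :=
  ∃ c : F, (g : Matrix (Fin n) (Fin n) F) = c • (1 : Matrix (Fin n) (Fin n) F)

/-- the normaliser of the plane `F + F s` of matrices -/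
def normF (s : GL (Fin n) F) : Subgroup (GL (Fin n) F) where
  carrier := {g | (∃ a b : F, ((g * s * g⁻¹ : GL (Fin n) F) : Matrix (Fin n) (Fin n) F) =
      a • (1 : Matrix (Fin n) (Fin n) F) + b • (s : Matrix (Fin n) (Fin n) F)) ∧
    ∃ a b : F, ((g⁻¹ * s * g : GL (Fin n) F) : Matrix (Fin n) (Fin n) F) =
      a • (1 : Matrix (Fin n) (Fin n) F) + b • (s : Matrix (Fin n) (Fin n) F)}
  mul_mem' := by
    rintro g h ⟨⟨a, b, hab⟩, ⟨a', b', hab'⟩⟩ ⟨⟨c, d, hcd⟩, ⟨c', d', hcd'⟩⟩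
    refine ⟨⟨c + d * a, d * b, ?_⟩, ⟨a' + b' * c', b' * d', ?_⟩⟩
    · have e : g * h * s * (g * h)⁻¹ = g * (h * s * h⁻¹) * g⁻¹ := by group
      rw [e, Units.val_mul, Units.val_mul, hcd, Matrix.mul_add, Matrix.add_mul,
        Matrix.mul_smul, Matrix.smul_mul, Matrix.mul_smul, Matrix.smul_mul, Matrix.mul_one,
        ← Units.val_mul, mul_inv_cancel, ← Units.val_mul, ← Units.val_mul, hab, Units.val_one]
      module
    · have e : (g * h)⁻¹ * s * (g * h) = h⁻¹ * (g⁻¹ * s * g) * h := by group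
      rw [e, Units.val_mul, Units.val_mul, hab', Matrix.mul_add, Matrix.add_mul,
        Matrix.mul_smul, Matrix.smul_mul, Matrix.mul_smul, Matrix.smul_mul, Matrix.mul_one,
        ← Units.val_mul, inv_mul_cancel, ← Units.val_mul, ← Units.val_mul, hcd', Units.val_one]
      module
  one_mem' := ⟨⟨0, 1, by simp⟩, ⟨0, 1, by simp⟩⟩
  inv_mem' := by
    rintro g ⟨h1, h2⟩
    exact ⟨by rwa [inv_inv], by rwa [inv_inv]⟩

/-- the transvection with axis `v`: x ↦ x + (v 0 * x 1 - v 1 * x 0) • v -/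
def uv (v : Fin 2 → F) : Matrix.SpecialLinearGroup (Fin 2) F :=
  ⟨!![1 - v 0 * v 1, v 0 * v 0; -(v 1 * v 1), 1 + v 0 * v 1], by
    rw [Matrix.det_fin_two_of]; ring⟩

/-- the diagonal element diag(l, l⁻¹) -/
def dg (l : Fˣ) : Matrix.SpecialLinearGroup (Fin 2) F :=
  ⟨!![(l : F), 0; 0, ((l⁻¹ : Fˣ) : F)], by rw [Matrix.det_fin_two_of]; simp⟩

end Cfsg.Agent.Lib.Helper7.NMC
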