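import Cfsg.Agent.Lib.Helper7.NMC.Defs

set_option autoImplicit false

namespace Cfsg.Agent.Lib.Helper7.NMC

open Matrix

variable {n : ℕ} {F : Type*} [Field F]

/-- the nilpotent shift `∑ E_{i,i+1}` -/
def nb (n : ℕ) (F : Type*) [Field F] : Matrix (Fin n) (Fin n) F :=
  fun i j => if (i : ℕ) + 1 = j then 1 else 0

/-- the upper Jordan block -/
def jb (n : ℕ) (F : Type*) [Field F] : Matrix (Fin n) (Fin n) F := 1 + nb n F

theorem ge3a_det : (jb n F).det = 1 := by
  rw [Matrix.det_of_isUpperTriangular]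
  · apply Finset.prod_eq_one
    intro i _
    simp [jb, nb]
  · intro i j hij
    have h1 : i ≠ j := fun h => by subst h; exact lt_irrefl _ hij
    have h3 : (j : ℕ) < (i : ℕ) := hij
    have h2 : ¬ ((i : ℕ) + 1 = j) := by omega
    simp [jb, nb, h1, h2]

theorem ge3a_nb_mulVec (v : Fin n → F) (i : Fin n) (h : (i : ℕ) + 1 < n) :
    (nb n F *ᵥ v) i = v ⟨i + 1, h⟩ := by
  simp only [Matrix.mulVec, dotProduct, nb]
  rw [Finset.sum_eq_single (⟨i + 1, h⟩ : Fin n)]
  · simp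
  · intro j _ hj
    rw [if_neg, zero_mul]
    intro h'
    exact hj (Fin.ext h'.symm)
  · simp

theorem ge3a_nb_mulVec_last (v : Fin n → F) (i : Fin n) (h : ¬ (i : ℕ) + 1 < n) :
    (nb n F *ᵥ v) i = 0 := by
  simp only [Matrix.mulVec, dotProduct, nb]
  apply Finset.sum_eq_zero
  intro j _
  rw [if_neg, zero_mul]
  intro h'
  exact h (h' ▸ j.2)

theorem ge3a_nb_vecMul (w : Fin n → F) (i : Fin n) (h : (i : ℕ) + 1 < n) :
    (w ᵥ* nb n F) ⟨i + 1, h⟩ = w i := by
  simp only [Matrix.vecMul, dotProduct, nb]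
  rw [Finset.sum_eq_single i]
  · simp
  · intro j _ hj
    rw [if_neg, mul_zero]
    intro h'
    apply hj
    apply Fin.ext
    simpa using h'
  · simp

theorem ge3a_nb_vecMul_zero (w : Fin n → F) (j : Fin n) (h : (j : ℕ) = 0) :
    (w ᵥ* nb n F) j = 0 := by
  simp only [Matrix.vecMul, dotProduct, nb]
  apply Finset.sum_eq_zero
  intro i _
  rw [if_neg, mul_zero]
  omega

theorem ge3a_eigen (hn : 0 < n) (v : Fin n → F) (hv : v ≠ 0) (c : F)
    (h : jb n F *ᵥ v = c • v) : ∃ d : F, v = d • Pi.single (⟨0, hn⟩ : Fin n) (1 : F) := by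
  classical
  have hN : nb n F *ᵥ v = (c - 1) • v := by
    rw [jb, Matrix.add_mulVec, Matrix.one_mulVec] at h
    rw [sub_smul, one_smul, ← h]; simp
  have hne : (Finset.univ.filter (fun i => v i ≠ 0)).Nonempty := by
    by_contra hcon
    rw [Finset.not_nonempty_iff_eq_empty] at hcon
    apply hv
    ext i
    by_contra hi
    have : i ∈ Finset.univ.filter (fun i => v i ≠ 0) := by
      simp only [Finset.mem_filter, Finset.mem_univ, true_and]; exact hi
    rw [hcon] at this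
    simp at this
  set m := (Finset.univ.filter (fun i => v i ≠ 0)).max' hne with hm
  have hvm : v m ≠ 0 := (Finset.mem_filter.1 (Finset.max'_mem _ hne)).2
  have hmax : ∀ j, m < j → v j = 0 := by
    intro j hj
    by_contra hvj
    exact absurd (Finset.le_max' _ j (by simp [hvj])) (not_le.2 hj)
  have h0 : (nb n F *ᵥ v) m = 0 := by
    by_cases hlt : (m : ℕ) + 1 < n
    · rw [ge3a_nb_mulVec v m hlt]
      apply hmax
      rw [Fin.lt_def]; simp
    · exact ge3a_nb_mulVec_last v m hlt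
  have hc : c - 1 = 0 := by
    have := congrFun hN m
    rw [h0] at this
    simp only [Pi.smul_apply, smul_eq_mul] at this
    exact (mul_eq_zero.mp this.symm).resolve_right hvm
  rw [hc, zero_smul] at hN
  refine ⟨v ⟨0, hn⟩, ?_⟩
  ext j
  by_cases hj : (j : ℕ) = 0
  · have : j = ⟨0, hn⟩ := Fin.ext hj
    subst this
    simp
  · have hj' : j ≠ ⟨0, hn⟩ := fun h => hj (congrArg Fin.val h)
    have hlt : ((⟨(j : ℕ) - 1, by omega⟩ : Fin n) : ℕ) + 1 < n := by
      have := j.2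
      simp only
      omega
    have h1 := ge3a_nb_mulVec v ⟨(j : ℕ) - 1, by omega⟩ hlt
    rw [hN] at h1
    have h2 : (⟨((⟨(j : ℕ) - 1, by omega⟩ : Fin n) : ℕ) + 1, hlt⟩ : Fin n) = j := by
      apply Fin.ext
      simp only
      omega
    rw [h2] at h1
    simp [← h1, hj']

theorem ge3a_eigen' (hn : 0 < n) (w : Fin n → F) (hw : w ≠ 0) (c : F)
    (h : w ᵥ* jb n F = c • w) :
    ∃ d : F, w = d • Pi.single (⟨n - 1, by omega⟩ : Fin n) (1 : F) := by
  classical
  have hN : w ᵥ* nb n F = (c - 1) • w := by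
    rw [jb, Matrix.vecMul_add, Matrix.vecMul_one] at h
    rw [sub_smul, one_smul, ← h]; simp
  have hne : (Finset.univ.filter (fun i => w i ≠ 0)).Nonempty := by
    by_contra hcon
    rw [Finset.not_nonempty_iff_eq_empty] at hcon
    apply hw
    ext i
    by_contra hi
    have : i ∈ Finset.univ.filter (fun i => w i ≠ 0) := by
      simp only [Finset.mem_filter, Finset.mem_univ, true_and]; exact hi
    rw [hcon] at this
    simp at this
  set m := (Finset.univ.filter (fun i => w i ≠ 0)).min' hne with hm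
  have hvm : w m ≠ 0 := (Finset.mem_filter.1 (Finset.min'_mem _ hne)).2
  have hmin : ∀ j, j < m → w j = 0 := by
    intro j hj
    by_contra hvj
    exact absurd (Finset.min'_le _ j (by simp [hvj])) (not_le.2 hj)
  have h0 : (w ᵥ* nb n F) m = 0 := by
    by_cases hz : (m : ℕ) = 0
    · exact ge3a_nb_vecMul_zero w m hz
    · have hlt : ((⟨(m : ℕ) - 1, by omega⟩ : Fin n) : ℕ) + 1 < n := by
        have := m.2
        simp only
        omega
      have h1 := ge3a_nb_vecMul w ⟨(m : ℕ) - 1, by omega⟩ hlt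
      have h2 : (⟨((⟨(m : ℕ) - 1, by omega⟩ : Fin n) : ℕ) + 1, hlt⟩ : Fin n) = m := by
        apply Fin.ext
        simp only
        omega
      rw [h2] at h1
      rw [h1]
      apply hmin
      rw [Fin.lt_def]
      simp only
      omega
  have hc : c - 1 = 0 := by
    have := congrFun hN m
    rw [h0] at this
    simp only [Pi.smul_apply, smul_eq_mul] at this
    exact (mul_eq_zero.mp this.symm).resolve_right hvm
  rw [hc, zero_smul] at hN
  refine ⟨w ⟨n - 1, by omega⟩, ?_⟩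
  ext j
  by_cases hj : (j : ℕ) = n - 1
  · have : j = ⟨n - 1, by omega⟩ := Fin.ext hj
    rw [this]
    simp
  · have hj' : j ≠ ⟨n - 1, by omega⟩ := fun h => hj (congrArg Fin.val h)
    have hlt : (j : ℕ) + 1 < n := by
      have := j.2
      omega
    have h1 := ge3a_nb_vecMul w j hlt
    rw [hN] at h1
    simp [← h1, hj']

/-- stabiliser of the line spanned by the row vector `w` -/
def stabR (w : Fin n → F) : Subgroup (GL (Fin n) F) where
  carrier := {g | (∃ c : F, w ᵥ* (g : Matrix (Fin n) (Fin n) F) = c • w) ∧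
    ∃ c : F, w ᵥ* ((g⁻¹ : GL (Fin n) F) : Matrix (Fin n) (Fin n) F) = c • w}
  mul_mem' := by
    rintro g h ⟨⟨c, hc⟩, ⟨c', hc'⟩⟩ ⟨⟨d, hd⟩, ⟨d', hd'⟩⟩
    refine ⟨⟨c * d, ?_⟩, ⟨d' * c', ?_⟩⟩
    · rw [Units.val_mul, ← Matrix.vecMul_vecMul, hc, Matrix.smul_vecMul, hd, smul_smul]
    · rw [_root_.mul_inv_rev, Units.val_mul, ← Matrix.vecMul_vecMul, hd', Matrix.smul_vecMul, hc',
        smul_smul]
  one_mem' := ⟨⟨1, by simp⟩, ⟨1, by simp⟩⟩
  inv_mem' := by
    rintro g ⟨h1, h2⟩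
    exact ⟨h2, by rwa [inv_inv]⟩

theorem ge3a_inv_mulVec (a : GL (Fin n) F) (v : Fin n → F) :
    ((a⁻¹ : GL (Fin n) F) : Matrix (Fin n) (Fin n) F) *ᵥ ((a : Matrix (Fin n) (Fin n) F) *ᵥ v) = v := by
  rw [Matrix.mulVec_mulVec, ← Units.val_mul, inv_mul_cancel, Units.val_one, Matrix.one_mulVec]

theorem ge3a_mulVec_inv (a : GL (Fin n) F) (v : Fin n → F) :
    (a : Matrix (Fin n) (Fin n) F) *ᵥ (((a⁻¹ : GL (Fin n) F) : Matrix (Fin n) (Fin n) F) *ᵥ v) = v := by
  rw [Matrix.mulVec_mulVec, ← Units.val_mul, mul_inv_cancel, Units.val_one, Matrix.one_mulVec]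

theorem ge3a_inv_vecMul (a : GL (Fin n) F) (v : Fin n → F) :
    (v ᵥ* (a : Matrix (Fin n) (Fin n) F)) ᵥ* ((a⁻¹ : GL (Fin n) F) : Matrix (Fin n) (Fin n) F) = v := by
  rw [Matrix.vecMul_vecMul, ← Units.val_mul, mul_inv_cancel, Units.val_one, Matrix.vecMul_one]

theorem ge3a_vecMul_inv (a : GL (Fin n) F) (v : Fin n → F) :
    (v ᵥ* ((a⁻¹ : GL (Fin n) F) : Matrix (Fin n) (Fin n) F)) ᵥ* (a : Matrix (Fin n) (Fin n) F) = v := by
  rw [Matrix.vecMul_vecMul, ← Units.val_mul, inv_mul_cancel, Units.val_one, Matrix.vecMul_one]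

/-- an eigenvector gives membership in `stabL` -/
theorem ge3a_mem_stabL (g : GL (Fin n) F) (v : Fin n → F) (hv : v ≠ 0) (c : F)
    (h : (g : Matrix (Fin n) (Fin n) F) *ᵥ v = c • v) : g ∈ stabL v := by
  refine ⟨⟨c, h⟩, ⟨c⁻¹, ?_⟩⟩
  have hc : c ≠ 0 := by
    rintro rfl
    apply hv
    have := ge3a_inv_mulVec g v
    rw [h, zero_smul, Matrix.mulVec_zero] at this
    exact this.symm
  have := ge3a_inv_mulVec g v
  rw [h, Matrix.mulVec_smul] at this
  conv_rhs => rw [← this]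
  rw [smul_smul, inv_mul_cancel₀ hc, one_smul]

theorem ge3a_mem_stabR (g : GL (Fin n) F) (v : Fin n → F) (hv : v ≠ 0) (c : F)
    (h : v ᵥ* (g : Matrix (Fin n) (Fin n) F) = c • v) : g ∈ stabR v := by
  refine ⟨⟨c, h⟩, ⟨c⁻¹, ?_⟩⟩
  have hc : c ≠ 0 := by
    rintro rfl
    apply hv
    have := ge3a_inv_vecMul g v
    rw [h, zero_smul, Matrix.zero_vecMul] at this
    exact this.symm
  have := ge3a_inv_vecMul g v
  rw [h, Matrix.smul_vecMul] at this
  conv_rhs => rw [← this]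
  rw [smul_smul, inv_mul_cancel₀ hc, one_smul]

end Cfsg.Agent.Lib.Helper7.NMC
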