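import Cfsg.Agent.Lib.Helper7.NMC.Defs
import Cfsg.Agent.Lib.Helper7.NMC.DG1
import Cfsg.Agent.Lib.Helper7.NMC.UNIT

set_option autoImplicit false

namespace Cfsg.Agent.Lib.Helper7.NMC

open Matrix

variable {n : ℕ} {F : Type*} [Field F]

/-- PRN.  q ≠ 5: `dg_not_mem_normF` + `exists_unit`.  q = 5: y = uv e₀ (= !![1,1;0,1]): it has an eigenvector and is not scalar, and its square !![1,2;0,1] is not scalar (2 ≠ 0). -/
theorem normF_proper [Fintype F] (hq : 4 ≤ Fintype.card F) (s : GL (Fin 2) F) (hs : IrrM s) :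
    ∃ y : Matrix.SpecialLinearGroup (Fin 2) F, Matrix.SpecialLinearGroup.toGL y ∉ normF s := by
  by_cases h5 : Fintype.card F = 5
  · have h2 : (2 : F) ≠ 0 := by
      intro h2
      have h := Nat.cast_card_eq_zero F
      rw [h5] at h
      have h' : (5 : F) = 0 := by exact_mod_cast h
      apply one_ne_zero (α := F)
      linear_combination h' - 2 * h2
    refine ⟨⟨!![1, 1; 0, 1], by rw [Matrix.det_fin_two_of]; ring⟩, ?_⟩
    intro hd
    have hM : ((Matrix.SpecialLinearGroup.toGL
        (⟨!![1, 1; 0, 1], by rw [Matrix.det_fin_two_of]; ring⟩ : Matrix.SpecialLinearGroup (Fin 2) F) :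
          GL (Fin 2) F) : Matrix (Fin 2) (Fin 2) F) = !![1, 1; 0, 1] := rfl
    rcases dg1_aux s _ hs hd (Pi.single 0 1) (by
        intro h0
        have := congrFun h0 0
        simp at this) 1 (by
        rw [hM]
        funext i
        fin_cases i <;> simp [Matrix.mulVec, dotProduct, Fin.sum_univ_two]) with ⟨c, hc⟩ | ⟨c, hc⟩
    · rw [hM] at hc
      have e0 := congrFun (congrFun hc 0) 1
      simp at e0
    · rw [Units.val_pow_eq_pow_val, hM, pow_two] at hc
      have e0 := congrFun (congrFun hc 0) 1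
      simp [Matrix.mul_apply, Fin.sum_univ_two] at e0
      apply h2
      linear_combination e0
  · obtain ⟨l, hl⟩ := exists_unit hq h5
    exact ⟨dg l, dg_not_mem_normF l hl s hs⟩

end Cfsg.Agent.Lib.Helper7.NMC
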